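import Mathlib
import Cfsg.Agent.Lib.GoldschmidtFusion
import Cfsg.Agent.TypeL3.Fusion
import Cfsg.Prelude.Def_Transfer
import Cfsg.Agent.Lib.Hyperfocal
import Cfsg.Agent.Transfer.Residual
import Cfsg.Agent.ClassicalGeometry.AutPSL.Main
import Cfsg.Agent.SylowL.SylowPSL
import Cfsg.Agent.TypeSpFour.Main
import Cfsg.Agent.ClassicalGeometry.SympAutTwo
import Cfsg.Agent.ClassicalGeometry.SympAutExists
import Cfsg.Agent.TypeL3.Model
import Cfsg.Prelude.Def_CaseTheorems
import Cfsg.Agent.Walter.LastCase_mg_m3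
import Cfsg.Agent.Transfer.CentralTransfer
import Cfsg.Agent.Walter.PSLFacts
import Cfsg.Agent.LThreeFi24.EmptyAbs
import Cfsg.Agent.S1170
import Cfsg.Agent.StdU3.EndLie
import Cfsg.Agent.H331.SCExc
import Cfsg.Agent.TypeU3Sz.Main
import Cfsg.Agent.FastGrp
import Cfsg.Agent.Prune
set_option linter.all false

section
prune_inst 0x7ffcbcfbaff83ddedfff7e7ffffddffc39905fffefdff94bffec69ff0fdf030e09c5fbad0de010fe1ef7629610b87813f97eceffec6bdc7ffffd5ff41ffbee0fe5f7b50851d488340fbc2fff03f07f8e7f3fffffffffffffffffffffffffffbeffffffffffff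

-- part: H306/AB/Quasi2
section
prune_inst 0x1000000000000000000000000000000000000000000000000000000000004000000000000000000000000000000000000000000000000000000000000400000000000080080000000000000000000000000000000000000000000000000000000000000
set_option linter.all false
open scoped Cfsg.Agent.FastGrp

-- part: H306/AB/Basic
section
/-!
# 2-groups `S = AB` (helper306)

Elementary properties of a group `S = AB`, `A`, `B` elementary abelian, all involutions in `A ∪ B`. Adapted from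
`Cfsg.Agent.TypeL3.Basic`, where moreover `A ∩ B = S'`.
-/

set_option autoImplicit false

namespace Cfsg.Agent.H306.AB

open Subgroup Cfsg.Agent.Lib.GoldschmidtFusion
open scoped commutatorElement

variable {G : Type*} [Group G]

/-- a nonabelian 2-group `S = AB`, `A`, `B` elementary abelian, all involutions of `S` in `A ∪ B` -/
structure IsAB (S A B : Subgroup G) : Prop where
  A_le : A ≤ S
  B_le : B ≤ S
  prod : ∀ s ∈ S, ∃ a ∈ A, ∃ b ∈ B, a * b = s
  A_comm : ∀ x ∈ A, ∀ y ∈ A, x * y = y * x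
  B_comm : ∀ x ∈ B, ∀ y ∈ B, x * y = y * x
  A_sq : ∀ x ∈ A, x * x = 1
  B_sq : ∀ x ∈ B, x * x = 1
  br : ∀ a ∈ A, ∀ b ∈ B, a * b * a⁻¹ * b⁻¹ ∈ A ⊓ B
  inv : ∀ s ∈ S, s * s = 1 → s ∈ A ∨ s ∈ B
  centA : ∀ a ∈ A, a ∉ B → ∀ s ∈ S, a * s = s * a → s ∈ A
  centB : ∀ b ∈ B, b ∉ A → ∀ s ∈ S, b * s = s * b → s ∈ B
  neA : ∃ a ∈ A, a ∉ B
  neB : ∃ b ∈ B, b ∉ A

namespace IsAB

variable {S A B : Subgroup G}

theorem symm (h : IsAB S A B) : IsAB S B A where
  A_le := h.B_le
  B_le := h.A_le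
  prod := by
    intro s hs
    obtain ⟨a, ha, b, hb, e⟩ := h.prod s⁻¹ (inv_mem hs)
    exact ⟨b⁻¹, inv_mem hb, a⁻¹, inv_mem ha, by rw [← mul_inv_rev, e, inv_inv]⟩
  A_comm := h.B_comm
  B_comm := h.A_comm
  A_sq := h.B_sq
  B_sq := h.A_sq
  br := by
    intro b hb a ha
    have h1 := inv_mem (h.br a ha b hb)
    rw [inf_comm]
    convert h1 using 1
    group
  inv := fun s hs h2 => (h.inv s hs h2).symm
  centA := h.centB
  centB := h.centA
  neA := h.neB
  neB := h.neA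

theorem Z_le (h : IsAB S A B) : A ⊓ B ≤ S := inf_le_left.trans h.A_le

theorem comm_Z (h : IsAB S A B) {z : G} (hz : z ∈ A ⊓ B) {s : G} (hs : s ∈ S) : z * s = s * z := by
  obtain ⟨a, ha, b, hb, rfl⟩ := h.prod s hs
  have h1 := h.A_comm z (mem_inf.1 hz).1 a ha
  have h2 := h.B_comm z (mem_inf.1 hz).2 b hb
  calc z * (a * b) = (z * a) * b := by group
    _ = a * (z * b) := by rw [h1]; group
    _ = a * b * z := by rw [h2]; group

/-- commutators of `S` lie in `Z = A ⊓ B` -/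
theorem exists_comm (h : IsAB S A B) {x y : G} (hx : x ∈ S) (hy : y ∈ S) :
    ∃ z ∈ A ⊓ B, x * y = y * x * z := by
  obtain ⟨a, ha, b, hb, rfl⟩ := h.prod x hx
  obtain ⟨c, hc, d, hd, rfl⟩ := h.prod y hy
  -- `b c = c b z₁`, `d a = a d z₂`
  have hz1 := inv_mem (h.br c hc b hb)
  have hz2 := inv_mem (h.br a ha d hd)
  set z1 := (c * b * c⁻¹ * b⁻¹)⁻¹ with e1
  set z2 := (a * d * a⁻¹ * d⁻¹)⁻¹ with e2
  have hb' := h.B_le hb
  have ha' := h.A_le ha
  have hc' := h.A_le hc
  have hd' := h.B_le hd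
  have f1 : b * c = c * b * z1 := by
    rw [← h.comm_Z hz1 (mul_mem hc' hb'), e1]; group
  have f2 : d * a = a * d * z2 := by
    rw [← h.comm_Z hz2 (mul_mem ha' hd'), e2]; group
  refine ⟨z1 * z2⁻¹, mul_mem hz1 (inv_mem hz2), ?_⟩
  have g1 : a * b * (c * d) = a * c * (b * d) * z1 := by
    calc a * b * (c * d) = a * (b * c) * d := by group
      _ = a * c * b * (z1 * d) := by rw [f1]; group
      _ = a * c * (b * d) * z1 := by rw [h.comm_Z hz1 hd']; group
  have g2 : c * d * (a * b) = a * c * (b * d) * z2 := by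
    calc c * d * (a * b) = c * (d * a) * b := by group
      _ = (c * a) * d * (z2 * b) := by rw [f2]; group
      _ = (c * a) * (d * b) * z2 := by rw [h.comm_Z hz2 hb']; group
      _ = a * c * (b * d) * z2 := by rw [h.A_comm c hc a ha, h.B_comm d hd b hb]
  rw [g1, g2]
  have : a * c * (b * d) * z2 * (z1 * z2⁻¹) = a * c * (b * d) * (z2 * z1) * z2⁻¹ := by group
  rw [this, h.comm_Z hz2 (h.Z_le hz1)]
  group

theorem comm_mem (h : IsAB S A B) {x y : G} (hx : x ∈ S) (hy : y ∈ S) :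
    x * y * x⁻¹ * y⁻¹ ∈ A ⊓ B := by
  obtain ⟨z, hz, e⟩ := h.exists_comm hx hy
  have : x * y * x⁻¹ * y⁻¹ = z := by
    rw [e, mul_assoc (y * x), h.comm_Z hz (inv_mem hx), mul_assoc (y * x), mul_assoc x⁻¹,
      h.comm_Z hz (inv_mem hy)]
    group
  rw [this]; exact hz

/-- a subgroup of `S` containing `Z` is normalised by `S` -/
theorem conj_mem (h : IsAB S A B) {X : Subgroup G} (hX : A ⊓ B ≤ X) (hXS : X ≤ S) {s x : G} (hs : s ∈ S)
    (hx : x ∈ X) : s * x * s⁻¹ ∈ X := by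
  have h1 := h.comm_mem hs (hXS hx)
  have h2 := mul_mem (hX h1) hx
  convert h2 using 1
  group

theorem le_normalizer (h : IsAB S A B) {X : Subgroup G} (hX : A ⊓ B ≤ X) (hXS : X ≤ S) :
    S ≤ normalizer (X : Set G) := by
  intro s hs
  rw [mem_normalizer_iff_map_conj]
  apply le_antisymm
  · rintro _ ⟨x, hx, rfl⟩
    exact h.conj_mem hX hXS hs hx
  · intro x hx
    rw [mem_map_conj]
    have := h.conj_mem hX hXS (inv_mem hs) hx
    simpa using this

theorem S_le_normalizer_A (h : IsAB S A B) : S ≤ normalizer (A : Set G) := h.le_normalizer inf_le_left h.A_le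
theorem S_le_normalizer_B (h : IsAB S A B) : S ≤ normalizer (B : Set G) := h.le_normalizer inf_le_right h.B_le
theorem S_le_normalizer_Z (h : IsAB S A B) : S ≤ normalizer ((A ⊓ B : Subgroup G) : Set G) :=
  h.le_normalizer le_rfl h.Z_le

theorem commutator_le (h : IsAB S A B) : ⁅S, S⁆ ≤ A ⊓ B := by
  rw [Subgroup.commutator_le]
  intro x hx y hy
  exact h.comm_mem hx hy

/-- `Z = A ⊓ B` is the centre of `S` -/
theorem mem_Z_of_comm (h : IsAB S A B) {s : G} (hs : s ∈ S) (hc : ∀ t ∈ S, t * s = s * t) : s ∈ A ⊓ B := by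
  obtain ⟨a, ha, ha'⟩ := h.neA
  obtain ⟨b, hb, hb'⟩ := h.neB
  exact mem_inf.2 ⟨h.centA a ha ha' s hs (hc a (h.A_le ha)), h.centB b hb hb' s hs (hc b (h.B_le hb))⟩

theorem Z_ne_bot (h : IsAB S A B) : A ⊓ B ≠ ⊥ := by
  intro h0
  obtain ⟨b, hb, hb'⟩ := h.neB
  obtain ⟨a, ha, ha'⟩ := h.neA
  apply hb'
  apply h.centA a ha ha' b (h.B_le hb)
  have h1 := h.br a ha b hb
  rw [h0, mem_bot] at h1
  have : a * b = b * a := by
    have := congrArg (fun t => t * b * a) h1
    simpa only [mul_assoc, _root_.inv_mul_cancel, _root_.mul_one, _root_.one_mul] using this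
  exact this

theorem le_or_le (h : IsAB S A B) {E : Subgroup G} (hE : E ≤ S) (hsq : ∀ e ∈ E, e * e = 1) :
    E ≤ A ∨ E ≤ B := by
  by_contra hcon
  push Not at hcon
  obtain ⟨h1, h2⟩ := hcon
  obtain ⟨x, hx, hxA⟩ := SetLike.not_le_iff_exists.1 h1
  obtain ⟨y, hy, hyB⟩ := SetLike.not_le_iff_exists.1 h2
  have hxB : x ∈ B := (h.inv x (hE hx) (hsq x hx)).resolve_left hxA
  have hyA : y ∈ A := (h.inv y (hE hy) (hsq y hy)).resolve_right hyB
  rcases h.inv (x * y) (hE (mul_mem hx hy)) (hsq _ (mul_mem hx hy)) with h3 | h3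
  · exact hxA (by simpa using mul_mem h3 (inv_mem hyA))
  · exact hyB (by simpa using mul_mem (inv_mem hxB) h3)

/-- an involution of `S` commuting with an element outside `A ∪ B` lies in `Z` -/
theorem mem_Z_of_comm_out (h : IsAB S A B) {s w : G} (hs : s ∈ S) (hsA : s ∉ A) (hsB : s ∉ B) (hw : w ∈ S)
    (hw2 : w * w = 1) (hc : w * s = s * w) : w ∈ A ⊓ B := by
  rcases h.inv w hw hw2 with h1 | h1
  · by_cases h2 : w ∈ B
    · exact mem_inf.2 ⟨h1, h2⟩
    · exact absurd (h.centA w h1 h2 s hs hc) hsA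
  · by_cases h2 : w ∈ A
    · exact mem_inf.2 ⟨h2, h1⟩
    · exact absurd (h.centB w h1 h2 s hs hc) hsB

/-- a subgroup contained neither in `A` nor in `B` has an element outside `A ∪ B` -/
theorem exists_out {X : Subgroup G} (hA : ¬ X ≤ A) (hB : ¬ X ≤ B) : ∃ s ∈ X, s ∉ A ∧ s ∉ B := by
  obtain ⟨x, hx, hxA⟩ := SetLike.not_le_iff_exists.1 hA
  obtain ⟨y, hy, hyB⟩ := SetLike.not_le_iff_exists.1 hB
  by_cases hxB : x ∈ B
  · by_cases hyA : y ∈ A
    · refine ⟨x * y, mul_mem hx hy, ?_, ?_⟩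
      · intro h3; exact hxA (by simpa using mul_mem h3 (inv_mem hyA))
      · intro h3; exact hyB (by simpa using mul_mem (inv_mem hxB) h3)
    · exact ⟨y, hy, hyA, hyB⟩
  · exact ⟨x, hx, hxA, hxB⟩

/-- if `Z ≤ X ≤ S` and `X` is contained neither in `A` nor in `B` then `N(X) ≤ N(Z)` -/
theorem normalizer_le_of_not_le (h : IsAB S A B) [Finite G] {X : Subgroup G} (hXS : X ≤ S) (hZX : A ⊓ B ≤ X)
    (hA : ¬ X ≤ A) (hB : ¬ X ≤ B) : normalizer (X : Set G) ≤ normalizer ((A ⊓ B : Subgroup G) : Set G) := by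
  obtain ⟨s, hsX, hsA, hsB⟩ := exists_out hA hB
  intro g hg
  rw [mem_normalizer_iff_map_conj]
  have hle : (A ⊓ B).map (MulAut.conj g).toMonoidHom ≤ A ⊓ B := by
    rintro _ ⟨z, hz, rfl⟩
    have hgX := mem_normalizer_iff_map_conj.1 hg
    have hw : g * z * g⁻¹ ∈ X := by
      have := conj_mem_map_conj (hZX hz) g
      rwa [hgX] at this
    have hs' : g⁻¹ * s * g ∈ X := by
      rw [← mem_map_conj, hgX]; exact hsX
    refine h.mem_Z_of_comm_out (hXS hsX) hsA hsB (hXS hw) ?_ ?_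
    · have := h.A_sq z (mem_inf.1 hz).1
      calc g * z * g⁻¹ * (g * z * g⁻¹) = g * (z * z) * g⁻¹ := by group
        _ = 1 := by rw [this]; group
    · have := h.comm_Z hz (hXS hs')
      calc g * z * g⁻¹ * s = g * (z * (g⁻¹ * s * g)) * g⁻¹ := by group
        _ = s * (g * z * g⁻¹) := by rw [this]; group
  apply Subgroup.eq_of_le_of_card_ge hle
  rw [card_map_conj]

section Map

variable {H : Type*} [Group H]

theorem inj_of_ker {S : Subgroup G} {f : G →* H} (hf : ∀ x ∈ S, f x = 1 → x = 1) {x y : G} (hx : x ∈ S)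
    (hy : y ∈ S) (e : f x = f y) : x = y := by
  have h1 : f (x * y⁻¹) = 1 := by rw [map_mul, map_inv, e, mul_inv_cancel]
  exact mul_inv_eq_one.1 (hf _ (mul_mem hx (inv_mem hy)) h1)

theorem map_inf_of_ker {S A B : Subgroup G} (hA : A ≤ S) (hB : B ≤ S) {f : G →* H}
    (hf : ∀ x ∈ S, f x = 1 → x = 1) : A.map f ⊓ B.map f = (A ⊓ B).map f := by
  apply le_antisymm
  · rintro _ ⟨⟨a, ha, rfl⟩, ⟨b, hb, hab⟩⟩
    have : b = a := inj_of_ker hf (hB hb) (hA ha) hab
    subst this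
    exact ⟨b, mem_inf.2 ⟨ha, hb⟩, rfl⟩
  · exact Subgroup.map_inf_le A B f

/-- image under a homomorphism injective on `S` -/
theorem map (h : IsAB S A B) (f : G →* H) (hf : ∀ x ∈ S, f x = 1 → x = 1) :
    IsAB (S.map f) (A.map f) (B.map f) := by
  have hinf := map_inf_of_ker h.A_le h.B_le hf
  refine ⟨Subgroup.map_mono h.A_le, Subgroup.map_mono h.B_le, ?_, ?_, ?_, ?_, ?_, ?_, ?_, ?_, ?_, ?_, ?_⟩
  · rintro _ ⟨s, hs, rfl⟩
    obtain ⟨a, ha, b, hb, rfl⟩ := h.prod s hs
    exact ⟨_, ⟨a, ha, rfl⟩, _, ⟨b, hb, rfl⟩, (map_mul _ _ _).symm⟩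
  · rintro _ ⟨x, hx, rfl⟩ _ ⟨y, hy, rfl⟩
    rw [← map_mul, h.A_comm x hx y hy, map_mul]
  · rintro _ ⟨x, hx, rfl⟩ _ ⟨y, hy, rfl⟩
    rw [← map_mul, h.B_comm x hx y hy, map_mul]
  · rintro _ ⟨x, hx, rfl⟩
    rw [← map_mul, h.A_sq x hx, map_one]
  · rintro _ ⟨x, hx, rfl⟩
    rw [← map_mul, h.B_sq x hx, map_one]
  · rintro _ ⟨a, ha, rfl⟩ _ ⟨b, hb, rfl⟩
    rw [hinf]
    exact ⟨_, h.br a ha b hb, by simp only [map_mul, map_inv]⟩
  · rintro _ ⟨s, hs, rfl⟩ h2
    rw [← map_mul] at h2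
    rcases h.inv s hs (hf _ (mul_mem hs hs) h2) with h3 | h3
    · exact Or.inl ⟨s, h3, rfl⟩
    · exact Or.inr ⟨s, h3, rfl⟩
  · rintro _ ⟨a, ha, rfl⟩ hab _ ⟨s, hs, rfl⟩ hc
    rw [← map_mul, ← map_mul] at hc
    refine ⟨s, h.centA a ha (fun h1 => hab ⟨a, h1, rfl⟩) s hs
      (inj_of_ker hf (mul_mem (h.A_le ha) hs) (mul_mem hs (h.A_le ha)) hc), rfl⟩
  · rintro _ ⟨a, ha, rfl⟩ hab _ ⟨s, hs, rfl⟩ hc
    rw [← map_mul, ← map_mul] at hc
    refine ⟨s, h.centB a ha (fun h1 => hab ⟨a, h1, rfl⟩) s hs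
      (inj_of_ker hf (mul_mem (h.B_le ha) hs) (mul_mem hs (h.B_le ha)) hc), rfl⟩
  · obtain ⟨a, ha, ha'⟩ := h.neA
    refine ⟨_, ⟨a, ha, rfl⟩, ?_⟩
    rintro ⟨b, hb, hab⟩
    exact ha' (inj_of_ker hf (h.B_le hb) (h.A_le ha) hab ▸ hb)
  · obtain ⟨a, ha, ha'⟩ := h.neB
    refine ⟨_, ⟨a, ha, rfl⟩, ?_⟩
    rintro ⟨b, hb, hab⟩
    exact ha' (inj_of_ker hf (h.A_le hb) (h.B_le ha) hab ▸ hb)

/-- the structure is inherited by a preimage -/
theorem of_map {S A B : Subgroup H} (hAS : A ≤ S) (hBS : B ≤ S) (f : H →* G) (hf : ∀ x ∈ S, f x = 1 → x = 1)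
    (h : IsAB (S.map f) (A.map f) (B.map f)) : IsAB S A B := by
  have hinf := map_inf_of_ker hAS hBS hf
  have key : ∀ {X : Subgroup H} {x : H}, X ≤ S → x ∈ S → f x ∈ X.map f → x ∈ X := by
    rintro X x hX hx ⟨y, hy, e⟩
    exact inj_of_ker hf (hX hy) hx e ▸ hy
  refine ⟨hAS, hBS, ?_, ?_, ?_, ?_, ?_, ?_, ?_, ?_, ?_, ?_, ?_⟩
  · intro s hs
    obtain ⟨_, ⟨a, ha, rfl⟩, _, ⟨b, hb, rfl⟩, e⟩ := h.prod _ ⟨s, hs, rfl⟩
    refine ⟨a, ha, b, hb, inj_of_ker hf (mul_mem (hAS ha) (hBS hb)) hs ?_⟩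
    rw [map_mul]; exact e
  · intro x hx y hy
    apply inj_of_ker hf (mul_mem (hAS hx) (hAS hy)) (mul_mem (hAS hy) (hAS hx))
    rw [map_mul, map_mul]
    exact h.A_comm _ ⟨x, hx, rfl⟩ _ ⟨y, hy, rfl⟩
  · intro x hx y hy
    apply inj_of_ker hf (mul_mem (hBS hx) (hBS hy)) (mul_mem (hBS hy) (hBS hx))
    rw [map_mul, map_mul]
    exact h.B_comm _ ⟨x, hx, rfl⟩ _ ⟨y, hy, rfl⟩
  · intro x hx
    apply hf _ (mul_mem (hAS hx) (hAS hx))
    rw [map_mul]
    exact h.A_sq _ ⟨x, hx, rfl⟩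
  · intro x hx
    apply hf _ (mul_mem (hBS hx) (hBS hx))
    rw [map_mul]
    exact h.B_sq _ ⟨x, hx, rfl⟩
  · intro a ha b hb
    have h1 := h.br _ ⟨a, ha, rfl⟩ _ ⟨b, hb, rfl⟩
    rw [hinf, ← map_mul, ← map_inv, ← map_mul, ← map_inv, ← map_mul] at h1
    refine key (inf_le_left.trans hAS) ?_ h1
    exact mul_mem (mul_mem (mul_mem (hAS ha) (hBS hb)) (inv_mem (hAS ha))) (inv_mem (hBS hb))
  · intro s hs h2
    have h3 := h.inv _ ⟨s, hs, rfl⟩ (by rw [← map_mul, h2, map_one])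
    rcases h3 with h3 | h3
    · exact Or.inl (key hAS hs h3)
    · exact Or.inr (key hBS hs h3)
  · intro a ha hab s hs hc
    apply key hAS hs
    refine h.centA _ ⟨a, ha, rfl⟩ (fun h1 => hab (key hBS (hAS ha) h1)) _ ⟨s, hs, rfl⟩ ?_
    rw [← map_mul, hc, map_mul]
  · intro a ha hab s hs hc
    apply key hBS hs
    refine h.centB _ ⟨a, ha, rfl⟩ (fun h1 => hab (key hAS (hBS ha) h1)) _ ⟨s, hs, rfl⟩ ?_
    rw [← map_mul, hc, map_mul]
  · obtain ⟨_, ⟨a, ha, rfl⟩, ha'⟩ := h.neA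
    exact ⟨a, ha, fun h1 => ha' ⟨a, h1, rfl⟩⟩
  · obtain ⟨_, ⟨a, ha, rfl⟩, ha'⟩ := h.neB
    exact ⟨a, ha, fun h1 => ha' ⟨a, h1, rfl⟩⟩

/-- restriction to a subgroup containing `S` -/
theorem subgroupOf (h : IsAB S A B) {C : Subgroup G} (hSC : S ≤ C) :
    IsAB (S.subgroupOf C) (A.subgroupOf C) (B.subgroupOf C) := by
  refine of_map (Subgroup.comap_mono h.A_le) (Subgroup.comap_mono h.B_le) C.subtype
    (fun _ _ hx => C.subtype_injective (hx.trans (map_one _).symm)) ?_
  rw [Subgroup.map_subgroupOf_eq_of_le hSC, Subgroup.map_subgroupOf_eq_of_le (h.A_le.trans hSC),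
    Subgroup.map_subgroupOf_eq_of_le (h.B_le.trans hSC)]
  exact h

end Map

end IsAB

end Cfsg.Agent.H306.AB
end

-- part: H306/AB/Fusion
section
/-!
# Fusion in groups with Sylow 2-subgroup `S = AB` (helper306)

Adapted from `Cfsg.Agent.TypeL3.Fusion`: `gen_AB`: fusion is generated by `N(S)`, `N(A)`, `N(B)`.
-/

set_option autoImplicit false

namespace Cfsg.Agent.H306.AB

open Subgroup Cfsg.Agent.Lib.GoldschmidtFusion
open Cfsg.Agent.TypeL3 (exists_mul_of_pow_mem sylow_not_dvd_relIndex exists_conj_normalizer)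
open scoped commutatorElement

variable {G : Type*} [Group G]

namespace IsAB

variable {A B : Subgroup G}

section

variable [Finite G]

theorem normalizer_le_A {S : Sylow 2 G} (h : IsAB (S : Subgroup G) A B) :
    normalizer ((S : Subgroup G) : Set G) ≤ normalizer (A : Set G) := by
  intro g hg
  have hSA := h.S_le_normalizer_A
  -- each element of `N(S)` fixes or swaps `{A, B}`
  have key : ∀ g ∈ normalizer ((S : Subgroup G) : Set G), A.map (MulAut.conj g).toMonoidHom = A ∨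
      A.map (MulAut.conj g).toMonoidHom = B := by
    intro g hg
    have hgS := mem_normalizer_iff_map_conj.1 hg
    have hAg : A.map (MulAut.conj g).toMonoidHom ≤ S := (map_conj_mono h.A_le g).trans hgS.le
    have hBg : B.map (MulAut.conj g).toMonoidHom ≤ S := (map_conj_mono h.B_le g).trans hgS.le
    have hAsq : ∀ e ∈ A.map (MulAut.conj g).toMonoidHom, e * e = 1 := by
      rintro _ ⟨a, ha, rfl⟩
      rw [← map_mul, h.A_sq a ha, map_one]
    rcases h.le_or_le hAg hAsq with h1 | h1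
    · exact Or.inl (Subgroup.eq_of_le_of_card_ge h1 (by rw [card_map_conj]))
    · right
      -- `B^{g⁻¹}` contains `A`
      have h2 : A ≤ B.map (MulAut.conj g⁻¹).toMonoidHom := by
        have := map_conj_mono h1 g⁻¹
        rwa [map_conj_map_conj, inv_mul_cancel, map_conj_one] at this
      have hBg' : B.map (MulAut.conj g⁻¹).toMonoidHom ≤ S := by
        have h3 := mem_normalizer_iff_map_conj.1 (inv_mem hg)
        exact (map_conj_mono h.B_le g⁻¹).trans h3.le
      have hBsq : ∀ e ∈ B.map (MulAut.conj g⁻¹).toMonoidHom, e * e = 1 := by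
        rintro _ ⟨b, hb, rfl⟩
        rw [← map_mul, h.B_sq b hb, map_one]
      rcases h.le_or_le hBg' hBsq with h3 | h3
      · have h4 : B.map (MulAut.conj g⁻¹).toMonoidHom = A := le_antisymm h3 h2
        rw [← h4, map_conj_map_conj, mul_inv_cancel, map_conj_one]
      · obtain ⟨a, ha, ha'⟩ := h.neA
        exact absurd (h3 (h2 ha)) ha'
  have hsq : g * g ∈ normalizer (A : Set G) := by
    rw [mem_normalizer_iff_map_conj, ← map_conj_map_conj]
    rcases key g hg with h1 | h1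
    · rw [h1, h1]
    · rw [h1]
      rcases key (g * g) (mul_mem hg hg) with h2 | h2
      · rw [← map_conj_map_conj, h1] at h2; exact h2
      · rw [← map_conj_map_conj, h1] at h2
        -- then `B^g = B` and `A^g = B`
        have h3 : A = B := Subgroup.map_injective (MulAut.conj g).injective (h1.trans h2.symm)
        obtain ⟨a, ha, ha'⟩ := h.neA
        exact absurd (h3 ▸ ha) ha'
  -- an odd power of `g` lies in `S`
  have hodd : ∃ k : ℕ, g ^ (2 * k + 1) ∈ (S : Subgroup G) := by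
    set m := (S : Subgroup G).relIndex (normalizer ((S : Subgroup G) : Set G)) with hm
    have hmodd : ¬ 2 ∣ m := sylow_not_dvd_relIndex S Subgroup.le_normalizer
    have hmem : g ^ m ∈ (S : Subgroup G) := by
      have hN : ((S : Subgroup G).subgroupOf (normalizer ((S : Subgroup G) : Set G))).Normal :=
        Subgroup.normal_in_normalizer
      have h1 := Subgroup.pow_index_mem ((S : Subgroup G).subgroupOf (normalizer ((S : Subgroup G) : Set G)))
        (⟨g, hg⟩ : normalizer ((S : Subgroup G) : Set G))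
      rw [mem_subgroupOf] at h1
      exact h1
    obtain ⟨k, hk⟩ : Odd m := Nat.not_even_iff_odd.1 (fun he => hmodd he.two_dvd)
    exact ⟨k, by rw [← hk]; exact hmem⟩
  obtain ⟨k, hk⟩ := hodd
  have h1 : g ^ (2 * k + 1) ∈ normalizer (A : Set G) := hSA hk
  have h2 : (g * g) ^ k ∈ normalizer (A : Set G) := pow_mem hsq k
  have h3 : g = ((g * g) ^ k)⁻¹ * g ^ (2 * k + 1) := by
    rw [← pow_two, ← pow_mul, pow_succ]; group
  rw [h3]
  exact mul_mem (inv_mem h2) h1

theorem normalizer_le_B {S : Sylow 2 G} (h : IsAB (S : Subgroup G) A B) :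
    normalizer ((S : Subgroup G) : Set G) ≤ normalizer (B : Set G) := h.symm.normalizer_le_A

theorem normalizer_le_Z {S : Sylow 2 G} (h : IsAB (S : Subgroup G) A B) :
    normalizer ((S : Subgroup G) : Set G) ≤ normalizer ((A ⊓ B : Subgroup G) : Set G) := by
  intro g hg
  have h1 := mem_normalizer_iff_map_conj.1 (h.normalizer_le_A hg)
  have h2 := mem_normalizer_iff_map_conj.1 (h.normalizer_le_B hg)
  rw [mem_normalizer_iff_map_conj, Subgroup.map_inf A B _ (MulAut.conj g).injective, h1, h2]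

/-- the stabiliser of the chain `1 ≤ Z ≤ P` in `N(P)` -/
def chainStab (Z P : Subgroup G) : Subgroup G where
  carrier := {r | r ∈ normalizer (P : Set G) ∧ (∀ z ∈ Z, r * z = z * r) ∧ ∀ x ∈ P, r * x * r⁻¹ * x⁻¹ ∈ Z}
  one_mem' := ⟨one_mem _, fun z _ => by simp, fun x _ => by simp [Z.one_mem]⟩
  mul_mem' := by
    rintro r s ⟨hr1, hr2, hr3⟩ ⟨hs1, hs2, hs3⟩
    refine ⟨mul_mem hr1 hs1, fun z hz => ?_, fun x hx => ?_⟩
    · rw [mul_assoc, hs2 z hz, ← mul_assoc, hr2 z hz, mul_assoc]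
    · have h1 := hs3 x hx
      have h2 := hr3 x hx
      have e : r * s * x * (r * s)⁻¹ * x⁻¹ = r * (s * x * s⁻¹ * x⁻¹) * r⁻¹ * (r * x * r⁻¹ * x⁻¹) := by group
      rw [e, hr2 _ h1, mul_inv_cancel_right]
      exact mul_mem h1 h2
  inv_mem' := by
    rintro r ⟨hr1, hr2, hr3⟩
    refine ⟨inv_mem hr1, fun z hz => ?_, fun x hx => ?_⟩
    · have := hr2 z hz
      calc r⁻¹ * z = r⁻¹ * (z * r) * r⁻¹ := by group
        _ = z * r⁻¹ := by rw [← this]; group
    · have hy : r⁻¹ * x * r ∈ P := by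
        rw [← mem_map_conj, mem_normalizer_iff_map_conj.1 hr1]; exact hx
      have h1 := inv_mem (hr3 _ hy)
      convert h1 using 1
      group

theorem exists_normalizer_mul {S : Sylow 2 G} (h : IsAB (S : Subgroup G) A B) {P : Subgroup G} (hPS : P ≤ S)
    (hZP : A ⊓ B ≤ P) (hN : normalizer (P : Set G) ≤ normalizer ((A ⊓ B : Subgroup G) : Set G)) {g : G}
    (hg : g ∈ normalizer (P : Set G)) :
    ∃ n ∈ normalizer ((S : Subgroup G) : Set G), ∃ c ∈ centralizer (P : Set G), g = n * c := by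
  set R := chainStab (A ⊓ B) P with hR
  have hSR : (S : Subgroup G) ≤ R := fun s hs =>
    ⟨h.le_normalizer hZP hPS hs, fun z hz => (h.comm_Z hz hs).symm, fun x hx => h.comm_mem hs (hPS hx)⟩
  have hCR : centralizer (P : Set G) ≤ R := by
    intro c hc
    refine ⟨centralizer_le_normalizer _ hc, fun z hz => ?_, fun x hx => ?_⟩
    · exact ((mem_centralizer_iff.1 hc) z (hZP hz)).symm
    · rw [conj_eq_of_mem_centralizer hc hx, mul_inv_cancel]; exact one_mem _
  -- `N(P)` normalises `R`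
  have hRn : ∀ g ∈ normalizer (P : Set G), ∀ r ∈ R, g * r * g⁻¹ ∈ R := by
    intro g hg r hr
    obtain ⟨hr1, hr2, hr3⟩ := hr
    have hgZ := mem_normalizer_iff_map_conj.1 (hN hg)
    have hgP := mem_normalizer_iff_map_conj.1 hg
    refine ⟨mul_mem (mul_mem hg hr1) (inv_mem hg), fun z hz => ?_, fun x hx => ?_⟩
    · have hz' : g⁻¹ * z * g ∈ A ⊓ B := by rw [← mem_map_conj, hgZ]; exact hz
      have := hr2 _ hz'
      calc g * r * g⁻¹ * z = g * (r * (g⁻¹ * z * g)) * g⁻¹ := by group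
        _ = z * (g * r * g⁻¹) := by rw [this]; group
    · have hx' : g⁻¹ * x * g ∈ P := by rw [← mem_map_conj, hgP]; exact hx
      have := hr3 _ hx'
      have h2 := conj_mem_map_conj this g
      rw [hgZ] at h2
      convert h2 using 1
      group
  have hpow : ∀ r ∈ R, ∃ k : ℕ, r ^ 2 ^ k ∈ centralizer (P : Set G) := by
    intro r hr
    refine ⟨1, ?_⟩
    rw [pow_one, pow_two, mem_centralizer_iff]
    intro x hx
    obtain ⟨hr1, hr2, hr3⟩ := hr
    set z := r * x * r⁻¹ * x⁻¹ with hz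
    have hzZ : z ∈ A ⊓ B := hr3 x hx
    have e1 : r * x * r⁻¹ = z * x := by rw [hz]; group
    have hzz : z * z = 1 := h.A_sq z (mem_inf.1 hzZ).1
    have e2 : r * r * x * (r * r)⁻¹ = x := by
      calc r * r * x * (r * r)⁻¹ = r * (r * x * r⁻¹) * r⁻¹ := by group
        _ = (r * z) * x * r⁻¹ := by rw [e1]; group
        _ = z * (r * x * r⁻¹) := by rw [hr2 z hzZ]; group
        _ = z * z * x := by rw [e1]; group
        _ = x := by rw [hzz, one_mul]
    calc x * (r * r) = (r * r * x * (r * r)⁻¹) * (r * r) := by rw [e2]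
      _ = r * r * x := by group
  have hCn : ∀ r ∈ R, ∀ c ∈ centralizer (P : Set G), r * c * r⁻¹ ∈ centralizer (P : Set G) := by
    intro r hr c hc
    rw [← mem_normalizer_iff_map_conj.1 hr.1, mem_centralizer_map_conj]
    simpa [mul_assoc] using hc
  obtain ⟨r, hr, hrg⟩ := exists_conj_normalizer S hSR (hRn g hg)
  obtain ⟨s, hs, c, hc, rfl⟩ := exists_mul_of_pow_mem S hSR hCn hpow hr
  have h1 : c * g ∈ normalizer ((S : Subgroup G) : Set G) := by
    have := mul_mem (inv_mem (Subgroup.le_normalizer hs)) hrg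
    simpa [mul_assoc] using this
  refine ⟨c * g, h1, g⁻¹ * c⁻¹ * g, ?_, by group⟩
  rw [← mem_centralizer_map_conj, mem_normalizer_iff_map_conj.1 hg]
  exact inv_mem hc

/-- **Fusion in groups with Sylow 2-subgroup `S = AB`** -/
theorem gen_AB {S : Sylow 2 G} (h : IsAB (S : Subgroup G) A B) {P : Subgroup G} (hP : P ≤ S) {g : G}
    (hg : P.map (MulAut.conj g).toMonoidHom ≤ S) :
    Gen (S : Subgroup G) (fun X => X = S ∨ X = A ∨ X = B) P g := by
  have h1 := gen_of_conj S (fun X => centralizer (X : Set G) ⊓ (S : Subgroup G) ≤ X) inf_le_right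
    (fun X _ _ hX _ => hX) hP hg
  refine h1.weaken ?_
  intro X hXS hX n hn
  have hZX : A ⊓ B ≤ X := by
    refine le_trans ?_ hX
    intro z hz
    refine mem_inf.2 ⟨mem_centralizer_iff.2 fun x hx => ?_, h.Z_le hz⟩
    exact (h.comm_Z hz (hXS hx)).symm
  by_cases hXA : X ≤ A
  · have : X = A := by
      apply le_antisymm hXA
      refine le_trans ?_ hX
      intro a ha
      exact mem_inf.2 ⟨mem_centralizer_iff.2 fun x hx => h.A_comm x (hXA hx) a ha, h.A_le ha⟩
    exact Gen.base hXS (Or.inr (Or.inl this)) le_rfl hn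
  by_cases hXB : X ≤ B
  · have : X = B := by
      apply le_antisymm hXB
      refine le_trans ?_ hX
      intro a ha
      exact mem_inf.2 ⟨mem_centralizer_iff.2 fun x hx => h.B_comm x (hXB hx) a ha, h.B_le ha⟩
    exact Gen.base hXS (Or.inr (Or.inr this)) le_rfl hn
  obtain ⟨m, hm, c, hc, rfl⟩ := h.exists_normalizer_mul hXS hZX
    (h.normalizer_le_of_not_le hXS hZX hXA hXB) hn
  refine Gen.mul (Gen.cent hXS hc) ?_
  rw [map_conj_of_mem_centralizer hc]
  exact Gen.base le_rfl (Or.inl rfl) hXS hm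

end

end IsAB

end Cfsg.Agent.H306.AB
end

-- part: H306/AB/Make
section
/-!
# 2-groups `S = AB`: constructions (helper306)
-/

set_option autoImplicit false

namespace Cfsg.Agent.H306.AB

open Subgroup Cfsg.Agent.Lib.GoldschmidtFusion

variable {G : Type*} [Group G]

namespace IsAB

theorem le_or_le_of_inv {S A B E : Subgroup G} (hinv : ∀ s ∈ S, s * s = 1 → s ∈ A ∨ s ∈ B)
    (hE : E ≤ S) (hsq : ∀ e ∈ E, e * e = 1) : E ≤ A ∨ E ≤ B := by
  by_contra hcon
  push Not at hcon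
  obtain ⟨h1, h2⟩ := hcon
  obtain ⟨x, hx, hxA⟩ := SetLike.not_le_iff_exists.1 h1
  obtain ⟨y, hy, hyB⟩ := SetLike.not_le_iff_exists.1 h2
  have hxB : x ∈ B := (hinv x (hE hx) (hsq x hx)).resolve_left hxA
  have hyA : y ∈ A := (hinv y (hE hy) (hsq y hy)).resolve_right hyB
  rcases hinv (x * y) (hE (mul_mem hx hy)) (hsq _ (mul_mem hx hy)) with h3 | h3
  · exact hxA (by simpa using mul_mem h3 (inv_mem hyA))
  · exact hyB (by simpa using mul_mem (inv_mem hxB) h3)

theorem cent_of_inv {S A B : Subgroup G} (hAS : A ≤ S) (hBS : B ≤ S)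
    (prod : ∀ s ∈ S, ∃ a ∈ A, ∃ b ∈ B, a * b = s)
    (A_comm : ∀ x ∈ A, ∀ y ∈ A, x * y = y * x)
    (A_sq : ∀ x ∈ A, x * x = 1) (B_sq : ∀ x ∈ B, x * x = 1)
    (inv : ∀ s ∈ S, s * s = 1 → s ∈ A ∨ s ∈ B) :
    ∀ a ∈ A, a ∉ B → ∀ s ∈ S, a * s = s * a → s ∈ A := by
  intro a ha haB s hs hc
  obtain ⟨a1, ha1, b1, hb1, rfl⟩ := prod s hs
  have hcb : a * b1 = b1 * a := by
    have h1 := A_comm a ha a1 ha1
    have h2 : a1 * (a * b1) = a1 * (b1 * a) := by
      calc a1 * (a * b1) = (a * a1) * b1 := by rw [h1]; group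
        _ = a * (a1 * b1) := by group
        _ = a1 * b1 * a := hc
        _ = a1 * (b1 * a) := by group
    exact mul_left_cancel h2
  have hsq : (a * b1) * (a * b1) = 1 := by
    calc (a * b1) * (a * b1) = a * (b1 * a) * b1 := by group
      _ = (a * a) * (b1 * b1) := by rw [← hcb]; group
      _ = 1 := by rw [A_sq a ha, B_sq b1 hb1, one_mul]
  rcases inv _ (mul_mem (hAS ha) (hBS hb1)) hsq with h1 | h1
  · have h2 : b1 ∈ A := by simpa using mul_mem (inv_mem ha) h1
    exact mul_mem ha1 h2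
  · exact absurd (by simpa using mul_mem h1 (inv_mem hb1)) haB

theorem conj_of_inv {S A B : Subgroup G} (hAS : A ≤ S)
    (A_sq : ∀ x ∈ A, x * x = 1)
    (inv : ∀ s ∈ S, s * s = 1 → s ∈ A ∨ s ∈ B) (neA : ∃ a ∈ A, a ∉ B) {b : G} (hb : b ∈ B) (hbS : b ∈ S) :
    ∀ a ∈ A, b * a * b⁻¹ ∈ A := by
  have h1 : A.map (MulAut.conj b).toMonoidHom ≤ S := by
    rintro _ ⟨a, ha, rfl⟩
    exact mul_mem (mul_mem hbS (hAS ha)) (inv_mem hbS)
  have h2 : ∀ e ∈ A.map (MulAut.conj b).toMonoidHom, e * e = 1 := by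
    rintro _ ⟨a, ha, rfl⟩
    rw [← map_mul, A_sq a ha, map_one]
  rcases le_or_le_of_inv inv h1 h2 with h3 | h3
  · intro a ha
    exact h3 ⟨a, ha, rfl⟩
  · exfalso
    obtain ⟨a, ha, haB⟩ := neA
    have h4 : b * a * b⁻¹ ∈ B := h3 ⟨a, ha, rfl⟩
    apply haB
    have h5 := mul_mem (mul_mem (inv_mem hb) h4) hb
    have h6 : b⁻¹ * (b * a * b⁻¹) * b = a := by group
    rwa [h6] at h5

/-- The structure from the essential hypotheses. -/
theorem of_inv {S A B : Subgroup G} (hAS : A ≤ S) (hBS : B ≤ S)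
    (prod : ∀ s ∈ S, ∃ a ∈ A, ∃ b ∈ B, a * b = s)
    (A_comm : ∀ x ∈ A, ∀ y ∈ A, x * y = y * x) (B_comm : ∀ x ∈ B, ∀ y ∈ B, x * y = y * x)
    (A_sq : ∀ x ∈ A, x * x = 1) (B_sq : ∀ x ∈ B, x * x = 1)
    (inv : ∀ s ∈ S, s * s = 1 → s ∈ A ∨ s ∈ B)
    (neA : ∃ a ∈ A, a ∉ B) (neB : ∃ b ∈ B, b ∉ A) : IsAB S A B where
  A_le := hAS
  B_le := hBS
  prod := prod
  A_comm := A_comm
  B_comm := B_comm
  A_sq := A_sq
  B_sq := B_sq
  br := by
    intro a ha b hb
    constructor
    · have h1 := conj_of_inv hAS A_sq inv neA hb (hBS hb) a⁻¹ (inv_mem ha)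
      have h2 := mul_mem ha h1
      have h3 : a * (b * a⁻¹ * b⁻¹) = a * b * a⁻¹ * b⁻¹ := by group
      rwa [h3] at h2
    · have h1 := conj_of_inv hBS B_sq (fun s hs h => (inv s hs h).symm) neB ha (hAS ha) b hb
      exact B.mul_mem h1 (B.inv_mem hb)
  inv := inv
  centA := cent_of_inv hAS hBS prod A_comm A_sq B_sq inv
  centB := by
    refine cent_of_inv hBS hAS ?_ B_comm B_sq A_sq (fun s hs h => (inv s hs h).symm)
    intro s hs
    obtain ⟨a, ha, b, hb, e⟩ := prod s⁻¹ (inv_mem hs)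
    exact ⟨b⁻¹, inv_mem hb, a⁻¹, inv_mem ha, by rw [← mul_inv_rev, e, inv_inv]⟩
  neA := neA
  neB := neB

/-- Two distinct maximal elementary abelian subgroups. -/
theorem of_max {T : Type*} [Group T] [Finite T] {A B : Subgroup T} (hAB : A ≠ B)
    (hA : Cfsg.IsElementaryAbelian 2 A ∧ ∀ C : Subgroup T, Cfsg.IsElementaryAbelian 2 C → A ≤ C → C = A)
    (hB : Cfsg.IsElementaryAbelian 2 B ∧ ∀ C : Subgroup T, Cfsg.IsElementaryAbelian 2 C → B ≤ C → C = B)
    (honly : ∀ C : Subgroup T, Cfsg.IsElementaryAbelian 2 C →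
      (∀ D : Subgroup T, Cfsg.IsElementaryAbelian 2 D → C ≤ D → D = C) → C = A ∨ C = B)
    (hprod : ∀ s : T, ∃ a ∈ A, ∃ b ∈ B, a * b = s) : IsAB (⊤ : Subgroup T) A B := by
  have hc : ∀ {E : Subgroup T}, Cfsg.IsElementaryAbelian 2 E → ∀ x ∈ E, ∀ y ∈ E, x * y = y * x := by
    intro E hE x hx y hy
    exact congrArg Subtype.val (hE.1.is_comm.comm ⟨x, hx⟩ ⟨y, hy⟩)
  have hs : ∀ {E : Subgroup T}, Cfsg.IsElementaryAbelian 2 E → ∀ x ∈ E, x * x = 1 := by
    intro E hE x hx
    rw [← pow_two]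
    exact hE.2 x hx
  refine of_inv le_top le_top (fun s _ => hprod s) (hc hA.1) (hc hB.1) (hs hA.1) (hs hB.1) ?_ ?_ ?_
  · intro s _ hss
    have hE : Cfsg.IsElementaryAbelian 2 (zpowers s) := by
      refine ⟨inferInstance, ?_⟩
      rintro _ ⟨k, rfl⟩
      change (s ^ k) ^ 2 = 1
      rw [← zpow_natCast, ← zpow_mul, mul_comm, zpow_mul]
      have : s ^ ((2 : ℕ) : ℤ) = 1 := by rw [zpow_natCast, pow_two, hss]
      rw [this, one_zpow]
    obtain ⟨C, hsC, hC, hmax⟩ : ∃ C : Subgroup T, zpowers s ≤ C ∧ Cfsg.IsElementaryAbelian 2 C ∧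
        ∀ D : Subgroup T, Cfsg.IsElementaryAbelian 2 D → C ≤ D → D = C := by
      obtain ⟨C, hC1, hC2⟩ := Set.Finite.exists_le_maximal
        (s := {E : Subgroup T | Cfsg.IsElementaryAbelian 2 E}) (Set.toFinite _) hE
      exact ⟨C, hC1, hC2.prop, fun D hD hCD => le_antisymm (hC2.le_of_ge hD hCD) hCD⟩
    rcases honly C hC hmax with rfl | rfl
    · exact Or.inl (hsC (mem_zpowers s))
    · exact Or.inr (hsC (mem_zpowers s))
  · by_contra hcon
    push Not at hcon
    exact hAB (hA.2 B hB.1 hcon).symm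
  · by_contra hcon
    push Not at hcon
    exact hAB (hB.2 A hA.1 hcon)

/-- A nonabelian subgroup which is the product of its intersections with `A` and `B`. -/
theorem inf_of_prod {S A B P : Subgroup G} (h : IsAB S A B) (hPS : P ≤ S)
    (hprod : ∀ s ∈ P, ∃ a ∈ A ⊓ P, ∃ b ∈ B ⊓ P, a * b = s)
    (hnc : ¬ ∀ x ∈ P, ∀ y ∈ P, x * y = y * x) : IsAB P (A ⊓ P) (B ⊓ P) := by
  have hlt : ∀ {A B : Subgroup G}, (∀ x ∈ B, ∀ y ∈ B, x * y = y * x) →
      (∀ s ∈ P, ∃ a ∈ A ⊓ P, ∃ b ∈ B ⊓ P, a * b = s) → ∃ a ∈ A ⊓ P, a ∉ B ⊓ P := by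
    intro A B hB hp
    by_contra hcon
    push Not at hcon
    apply hnc
    have h1 : ∀ x ∈ P, x ∈ B := by
      intro x hx
      obtain ⟨a, ha, b, hb, rfl⟩ := hp x hx
      exact mul_mem (hcon a ha).1 hb.1
    intro x hx y hy
    exact hB x (h1 x hx) y (h1 y hy)
  refine of_inv inf_le_right inf_le_right hprod (fun x hx y hy => h.A_comm x hx.1 y hy.1)
    (fun x hx y hy => h.B_comm x hx.1 y hy.1) (fun x hx => h.A_sq x hx.1) (fun x hx => h.B_sq x hx.1) ?_
    (hlt h.B_comm hprod) ?_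
  · intro s hs hss
    rcases h.inv s (hPS hs) hss with h1 | h1
    · exact Or.inl ⟨h1, hs⟩
    · exact Or.inr ⟨h1, hs⟩
  · refine hlt h.A_comm ?_
    intro s hs
    obtain ⟨a, ha, b, hb, e⟩ := hprod s⁻¹ (inv_mem hs)
    exact ⟨b⁻¹, inv_mem hb, a⁻¹, inv_mem ha, by rw [← mul_inv_rev, e, inv_inv]⟩

end IsAB

end Cfsg.Agent.H306.AB
end

-- part: H306/AB/Hyper
section
/-!
# The hyperfocal subgroup of a group with Sylow 2-subgroup `S = AB` (helper306)

`exists_mul_pResidual`: `S ∩ O²(G) = (A ∩ O²(G)) (B ∩ O²(G))`.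
-/

set_option autoImplicit false

namespace Cfsg.Agent.H306.AB

open Subgroup Cfsg.Agent.Lib.GoldschmidtFusion

variable {G : Type*} [Group G] [Finite G] {A B : Subgroup G}

namespace IsAB

theorem exists_mul_pResidual {S : Sylow 2 G} (h : IsAB (S : Subgroup G) A B) :
    ∀ s ∈ (S : Subgroup G) ⊓ Cfsg.pResidual 2 G, ∃ a ∈ A ⊓ Cfsg.pResidual 2 G,
      ∃ b ∈ B ⊓ Cfsg.pResidual 2 G, a * b = s := by
  have h2 : Fact (Nat.Prime 2) := ⟨Nat.prime_two⟩
  set N := Cfsg.pResidual 2 G with hN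
  have hNn : N.Normal := Transfer.Residual.pResidual_normal 2
  have hoddN : ∀ g : G, Nat.Coprime (orderOf g) 2 → g ∈ N := fun g hg => by
    exact Transfer.Residual.mem_pResidual_of_coprime hg
  have hAn : ∀ s ∈ (S : Subgroup G), ∀ x ∈ A ⊓ N, s * x * s⁻¹ ∈ A ⊓ N := fun s hs x hx =>
    ⟨(mem_normalizer_iff.1 (h.S_le_normalizer_A hs) x).1 hx.1, hNn.conj_mem x hx.2 s⟩
  have hBn : ∀ s ∈ (S : Subgroup G), ∀ x ∈ B ⊓ N, s * x * s⁻¹ ∈ B ⊓ N := fun s hs x hx =>
    ⟨(mem_normalizer_iff.1 (h.S_le_normalizer_B hs) x).1 hx.1, hNn.conj_mem x hx.2 s⟩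
  let H : Subgroup G :=
    { carrier := {s | ∃ a ∈ A ⊓ N, ∃ b ∈ B ⊓ N, a * b = s}
      one_mem' := ⟨1, one_mem _, 1, one_mem _, one_mul 1⟩
      mul_mem' := by
        rintro _ _ ⟨a, ha, b, hb, rfl⟩ ⟨c, hc, d, hd, rfl⟩
        refine ⟨a * (b * c * b⁻¹), mul_mem ha (hAn b (h.B_le hb.1) c hc), b * d, mul_mem hb hd, by group⟩
      inv_mem' := by
        rintro _ ⟨a, ha, b, hb, rfl⟩
        refine ⟨b⁻¹ * a⁻¹ * b, ?_, b⁻¹, inv_mem hb, by group⟩
        have := hAn b⁻¹ (inv_mem (h.B_le hb.1)) a⁻¹ (inv_mem ha)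
        rwa [inv_inv] at this }
  have hHmem : ∀ s, s ∈ H ↔ ∃ a ∈ A ⊓ N, ∃ b ∈ B ⊓ N, a * b = s := fun s => Iff.rfl
  have hAH : A ⊓ N ≤ H := fun a ha => ⟨a, ha, 1, one_mem _, mul_one a⟩
  have hBH : B ⊓ N ≤ H := fun b hb => ⟨1, one_mem _, b, hb, one_mul b⟩
  have hHc : ∀ s ∈ (S : Subgroup G), ∀ x ∈ H, s * x * s⁻¹ ∈ H := by
    rintro s hs _ ⟨a, ha, b, hb, rfl⟩
    exact ⟨s * a * s⁻¹, hAn s hs a ha, s * b * s⁻¹, hBn s hs b hb, by group⟩
  have hHn : (S : Subgroup G) ≤ normalizer (H : Set G) := by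
    intro s hs
    rw [mem_normalizer_iff]
    intro x
    constructor
    · exact hHc s hs x
    · intro hx
      have h3 := hHc s⁻¹ (inv_mem hs) _ hx
      have e : s⁻¹ * (s * x * s⁻¹) * s⁻¹⁻¹ = x := by group
      rwa [e] at h3
  have key := Lib.Hyperfocal.hyperfocal_of_gen S
    (fun X => X = S ∨ X = A ∨ X = B) (fun hA _ hg => h.gen_AB hA hg) ?_ H hHn ?_
  · intro s hs
    exact (hHmem s).1 (key hs)
  · intro X hXS hX
    have hle : (S : Subgroup G) ≤ normalizer (X : Set G) := by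
      rcases hX with rfl | rfl | rfl
      · exact Subgroup.le_normalizer
      · exact h.S_le_normalizer_A
      · exact h.S_le_normalizer_B
    exact Cfsg.Agent.TypeL3.sylow_not_dvd_relIndex S hle
  · intro X hXS hX g hg hgo x hx
    have hgN := hoddN g hgo
    have hin : ∀ x : G, g * x * g⁻¹ * x⁻¹ ∈ N := by
      intro x
      have h3 := hNn.conj_mem g⁻¹ (inv_mem hgN) x
      have h4 := mul_mem hgN h3
      have e : g * (x * g⁻¹ * x⁻¹) = g * x * g⁻¹ * x⁻¹ := by group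
      rwa [e] at h4
    have hA' : g ∈ normalizer (A : Set G) → ∀ x ∈ A, g * x * g⁻¹ * x⁻¹ ∈ A ⊓ N := fun hg x hx =>
      ⟨A.mul_mem ((mem_normalizer_iff.1 hg x).1 hx) (A.inv_mem hx), hin x⟩
    have hB' : g ∈ normalizer (B : Set G) → ∀ x ∈ B, g * x * g⁻¹ * x⁻¹ ∈ B ⊓ N := fun hg x hx =>
      ⟨B.mul_mem ((mem_normalizer_iff.1 hg x).1 hx) (B.inv_mem hx), hin x⟩
    rcases hX with rfl | rfl | rfl
    · obtain ⟨a, ha, b, hb, rfl⟩ := h.prod x hx
      have h5 := hAH (hA' (h.normalizer_le_A hg) a ha)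
      have h6 := hBH (hB' (h.normalizer_le_B hg) b hb)
      have h7 := hHc a (h.A_le ha) _ h6
      have h8 := mul_mem h5 h7
      have e : g * a * g⁻¹ * a⁻¹ * (a * (g * b * g⁻¹ * b⁻¹) * a⁻¹) = g * (a * b) * g⁻¹ * (a * b)⁻¹ := by group
      rwa [e] at h8
    · exact hAH (hA' hg x hx)
    · exact hBH (hB' hg x hx)

/-- `S ∩ K = (A ∩ K)(B ∩ K)` for a perfect normal subgroup `K` with `G = KS`. -/
theorem exists_mul_of_perfect {S : Sylow 2 G} (h : IsAB (S : Subgroup G) A B) {K : Subgroup G} (hK : K.Normal)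
    (hperf : ⁅K, K⁆ = K) (htop : K ⊔ (S : Subgroup G) = ⊤) :
    ∀ s ∈ (S : Subgroup G) ⊓ K, ∃ a ∈ A ⊓ K, ∃ b ∈ B ⊓ K, a * b = s := by
  have h2 : Fact (Nat.Prime 2) := ⟨Nat.prime_two⟩
  have h1 : Cfsg.pResidual 2 G ≤ K := by
    apply Transfer.Residual.pResidual_le_of_isPGroup_quotient
    intro x
    obtain ⟨y, rfl⟩ := QuotientGroup.mk'_surjective K x
    have hy : y ∈ K ⊔ (S : Subgroup G) := by rw [htop]; trivial
    obtain ⟨k, hk, s, hs, rfl⟩ := (mem_sup_of_normal_left (hs := hK)).1 hy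
    obtain ⟨n, hn⟩ := S.isPGroup' ⟨s, hs⟩
    refine ⟨n, ?_⟩
    have h3 : QuotientGroup.mk' K (k * s) = QuotientGroup.mk' K s := by
      have h5 : QuotientGroup.mk' K k = 1 := (QuotientGroup.eq_one_iff k).2 hk
      rw [map_mul, h5, one_mul]
    rw [h3, ← map_pow]
    have h4 : s ^ 2 ^ n = 1 := congrArg Subtype.val hn
    rw [h4, map_one]
  have h3 : K ≤ Cfsg.pResidual 2 G := by
    have hn : (Cfsg.pResidual 2 G).Normal := Transfer.Residual.pResidual_normal 2
    have hpq : IsPGroup 2 (G ⧸ Cfsg.pResidual 2 G) := Transfer.Residual.isPGroup_quotient_pResidual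
    have hnil : Group.IsNilpotent (G ⧸ Cfsg.pResidual 2 G) := hpq.isNilpotent
    have h4 : K.map (QuotientGroup.mk' (Cfsg.pResidual 2 G)) = ⊥ := by
      apply Lib.Hyperfocal.eq_bot_of_le_commutator
      conv_lhs => rw [← hperf]
      rw [map_commutator]
      exact commutator_mono le_rfl le_top
    rwa [Subgroup.map_eq_bot_iff, QuotientGroup.ker_mk'] at h4
  rw [← le_antisymm h1 h3]
  exact h.exists_mul_pResidual

end IsAB

end Cfsg.Agent.H306.AB
end

-- part: H306/AB/Rigid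
section
/-!
# Automorphisms centralising `P` modulo `Z(P)` are inner (helper306)

`Rigid M`: every automorphism of `M` which centralises a Sylow 2-subgroup `P` modulo its centre is inner.
`rigid_psl3`: this holds for `PSL₃(F)`, `F` of characteristic two.
-/

set_option autoImplicit false

namespace Cfsg.Agent.H306.AB

open Subgroup

/-- `α` centralises `P` modulo `Z(P)` -/
def CentMod {M : Type*} [Group M] (P : Subgroup M) (α : MulAut M) : Prop :=
  ∀ x ∈ P, x⁻¹ * α x ∈ P ∧ ∀ y ∈ P, (x⁻¹ * α x) * y = y * (x⁻¹ * α x)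

/-- every automorphism centralising a Sylow 2-subgroup modulo its centre is inner -/
def Rigid (M : Type*) [Group M] : Prop :=
  ∀ (P : Sylow 2 M) (α : MulAut M), CentMod (P : Subgroup M) α → ∃ m : M, α = MulAut.conj m

theorem CentMod.map {M N : Type*} [Group M] [Group N] {P : Subgroup M} {α : MulAut M} (h : CentMod P α)
    (e : M ≃* N) : CentMod (P.map e.toMonoidHom) (e.symm.trans (α.trans e)) := by
  rintro _ ⟨x, hx, rfl⟩
  have e1 : (e.toMonoidHom x)⁻¹ * (e.symm.trans (α.trans e)) (e.toMonoidHom x) = e (x⁻¹ * α x) := by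
    change (e x)⁻¹ * e (α (e.symm (e x))) = _
    rw [e.symm_apply_apply, map_mul, map_inv]
  rw [e1]
  obtain ⟨h1, h2⟩ := h x hx
  refine ⟨⟨_, h1, rfl⟩, ?_⟩
  rintro _ ⟨y, hy, rfl⟩
  change e (x⁻¹ * α x) * e y = e y * e (x⁻¹ * α x)
  rw [← map_mul, h2 y hy, map_mul]

theorem rigid_of_one {M : Type*} [Group M] [Finite M] (P : Sylow 2 M)
    (h : ∀ α : MulAut M, CentMod (P : Subgroup M) α → ∃ m : M, α = MulAut.conj m) : Rigid M := by
  have h2 : Fact (Nat.Prime 2) := ⟨Nat.prime_two⟩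
  intro Q α hα
  obtain ⟨g, hg⟩ := MulAction.exists_smul_eq M Q P
  have h1 := hα.map (MulAut.conj g)
  have h3 : (Q : Subgroup M).map (MulAut.conj g).toMonoidHom = P := by
    rw [← hg]
    rfl
  rw [h3] at h1
  obtain ⟨m, hm⟩ := h _ h1
  refine ⟨g⁻¹ * m * g, ?_⟩
  apply MulEquiv.ext
  intro x
  have h4 := DFunLike.congr_fun hm (g * x * g⁻¹)
  change g * (α ((MulAut.conj g).symm (g * x * g⁻¹))) * g⁻¹ = m * (g * x * g⁻¹) * m⁻¹ at h4
  rw [MulAut.conj_symm_apply] at h4
  have e1 : g⁻¹ * (g * x * g⁻¹) * g = x := by group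
  rw [e1] at h4
  change α x = (g⁻¹ * m * g) * x * (g⁻¹ * m * g)⁻¹
  calc α x = g⁻¹ * (g * α x * g⁻¹) * g := by group
    _ = _ := by rw [h4]; group

theorem Rigid.of_equiv {M N : Type*} [Group M] [Group N] [Finite M] [Finite N] (h : Rigid M) (e : N ≃* M) :
    Rigid N := by
  have h2 : Fact (Nat.Prime 2) := ⟨Nat.prime_two⟩
  intro P α hα
  have h1 := hα.map e
  obtain ⟨m, hm⟩ := h (P.mapSurjective (f := e.toMonoidHom) e.surjective) (e.symm.trans (α.trans e)) h1
  refine ⟨e.symm m, ?_⟩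
  apply MulEquiv.ext
  intro x
  have h2 : e (α (e.symm (e x))) = m * e x * m⁻¹ := DFunLike.congr_fun hm (e x)
  rw [e.symm_apply_apply] at h2
  apply e.injective
  rw [h2, MulAut.conj_apply, map_mul, map_mul, map_inv, e.apply_symm_apply]

section psl

open Matrix
open Cfsg.Agent.ClassicalGeometry.AutPSL.Root
open Cfsg.Agent.ClassicalGeometry.AutPSL.Auto
open Cfsg.Agent.ClassicalGeometry.AutPSL.SylowU

variable {F : Type*} [Field F]

local notation "TV" => Matrix.SpecialLinearGroup.transvection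

theorem coe_tv {i j : Fin 3} (hij : i ≠ j) (c : F) :
    ((TV hij c : Matrix.SpecialLinearGroup (Fin 3) F) : Matrix (Fin 3) (Fin 3) F) = 1 + single i j c := rfl

theorem tv_mem_upper [Finite F] {i j : Fin 3} (hij : i ≠ j) (h : i < j) (c : F) : TV hij c ∈ upper 3 F := by
  rw [mem_upper]
  intro a b hba
  have h1 : ¬ (i = a ∧ j = b) := by
    rintro ⟨rfl, rfl⟩
    exact absurd h (not_lt.2 hba)
  rw [coe_tv, Matrix.add_apply, Matrix.one_apply, single_apply, if_neg h1, add_zero]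

theorem central3 [Finite F] {w : Matrix.SpecialLinearGroup (Fin 3) F} (hw : w ∈ upper 3 F)
    (h1 : w * TV (show (0 : Fin 3) ≠ 1 by decide) 1 = TV (show (0 : Fin 3) ≠ 1 by decide) 1 * w)
    (h2 : w * TV (show (1 : Fin 3) ≠ 2 by decide) 1 = TV (show (1 : Fin 3) ≠ 2 by decide) 1 * w) :
    ∃ d : F, (w : Matrix (Fin 3) (Fin 3) F) = 1 + single 0 2 d := by
  have e1 := congrFun (congrFun (congrArg Subtype.val h1) 0) 2
  have e2 := congrFun (congrFun (congrArg Subtype.val h2) 0) 2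
  change ((w : Matrix (Fin 3) (Fin 3) F) * (1 + single 0 1 1 : Matrix (Fin 3) (Fin 3) F)) 0 2 =
    ((1 + single 0 1 1 : Matrix (Fin 3) (Fin 3) F) * (w : Matrix (Fin 3) (Fin 3) F)) 0 2 at e1
  change ((w : Matrix (Fin 3) (Fin 3) F) * (1 + single 1 2 1 : Matrix (Fin 3) (Fin 3) F)) 0 2 =
    ((1 + single 1 2 1 : Matrix (Fin 3) (Fin 3) F) * (w : Matrix (Fin 3) (Fin 3) F)) 0 2 at e2
  have h := mem_upper.1 hw
  have h00 := h 0 0 (by decide)
  have h11 := h 1 1 (by decide)
  have h22 := h 2 2 (by decide)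
  have h10 := h 1 0 (by decide)
  have h20 := h 2 0 (by decide)
  have h21 := h 2 1 (by decide)
  simp only [Matrix.mul_apply, Fin.sum_univ_three, Matrix.one_apply, single_apply, _root_.Fin.isValue, _root_.Matrix.add_apply, _root_.Fin.reduceEq, _root_.and_false, _root_.not_false_eq_true, _root_.Matrix.single_apply_of_ne, _root_.add_zero, _root_.mul_ite, _root_.mul_one, _root_.MulZeroClass.mul_zero, _root_.Finset.sum_ite_eq', _root_.Finset.mem_univ, ↓ _root_.reduceIte, _root_.true_and, _root_.one_ne_zero, _root_.one_mul, _root_.zero_ne_one, _root_.zero_add, _root_.MulZeroClass.zero_mul, _root_.left_eq_add, _root_.and_true, _root_.false_and, _root_.ite_mul, _root_.Finset.sum_ite_eq, _root_.add_eq_right] at e1 e2 h00 h11 h22 h10 h20 h21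
  refine ⟨(w : Matrix (Fin 3) (Fin 3) F) 0 2, ?_⟩
  ext i j
  (revert i j; simp only [h00, h11, h22, h10, h20, h21, e1, e2, _root_.Fin.forall_fin_succ, Fin.isValue, _root_.Matrix.add_apply, Fin.reduceEq, _root_.and_false, _root_.not_false_eq_true, _root_.Matrix.single_apply_of_ne, _root_.add_zero, _root_.Fin.succ_zero_eq_one, _root_.Fin.succ_one_eq_two, _root_.IsEmpty.forall_iff, _root_.and_true, _root_.Matrix.one_apply_eq, Nat.reduceAdd, _root_.ne_eq, _root_.zero_ne_one, _root_.Matrix.one_apply_ne, _root_.Matrix.single_apply_same, _root_.zero_add, _root_.and_self, _root_.Fin.succ_ne_zero])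

/-- the equation for the image of a root element -/
theorem key [Fintype F] [CharP F 2] (S : Sylow 2 (Matrix.ProjectiveSpecialLinearGroup (Fin 3) F))
    (hS : (S : Subgroup _) = (upper 3 F).map pr) (e : MulAut (Matrix.SpecialLinearGroup (Fin 3) F))
    (hα : CentMod (S : Subgroup _) (lift e)) (A : GL (Fin 3) F) {i j k l : Fin 3} (hij : i ≠ j) (hlt : i < j)
    (hkl : k ≠ l) (c c' : F) (he : e (TV hij c) = cj A (TV hkl c')) :
    ∃ d : F, (A : Matrix (Fin 3) (Fin 3) F) * (1 + single k l c') =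
      ((1 + single i j c) * (1 + single 0 2 d)) * (A : Matrix (Fin 3) (Fin 3) F) := by
  have hu := tv_mem_upper hij hlt c
  have hmem : ∀ u ∈ upper 3 F, pr u ∈ (S : Subgroup _) := fun u hu => by
    rw [hS]; exact ⟨u, hu, rfl⟩
  obtain ⟨h1, h2⟩ := hα _ (hmem _ hu)
  rw [lift_pr] at h1 h2
  have h1' := h1
  rw [hS] at h1'
  obtain ⟨w, hw, hw'⟩ := h1'
  rw [← hw'] at h2
  have hcomm : ∀ t ∈ upper 3 F, w * t = t * w := by
    intro t ht
    apply pr_injOn_upper (Subgroup.mul_mem _ hw ht) (Subgroup.mul_mem _ ht hw)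
    rw [map_mul, map_mul]
    exact h2 _ (hmem _ ht)
  obtain ⟨d, hd⟩ := central3 hw (hcomm _ (tv_mem_upper _ (by decide) 1)) (hcomm _ (tv_mem_upper _ (by decide) 1))
  refine ⟨d, ?_⟩
  have h3 : pr (TV hij c * w) = pr (e (TV hij c)) := by
    rw [map_mul, hw']
    group
  obtain ⟨r, hr⟩ := exists_smul_of_pr_eq h3
  rw [he, coe_cj] at hr
  -- traces
  have htr1 : (((TV hij c * w : Matrix.SpecialLinearGroup (Fin 3) F) : Matrix (Fin 3) (Fin 3) F)).trace = 1 := by
    have h4 := mem_upper.1 (Subgroup.mul_mem _ hu hw)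
    rw [Matrix.trace_fin_three, h4 0 0 le_rfl, h4 1 1 le_rfl, h4 2 2 le_rfl]
    simp only [if_true]
    have h5 : (1 : F) + 1 = 0 := by
      have := CharTwo.two_eq_zero (R := F)
      rwa [← one_add_one_eq_two] at this
    rw [h5, zero_add]
  have htr2 : ((A : Matrix (Fin 3) (Fin 3) F) * (TV hkl c' : Matrix.SpecialLinearGroup (Fin 3) F) *
      ((A⁻¹ : GL (Fin 3) F) : Matrix (Fin 3) (Fin 3) F)).trace = 1 := by
    rw [Matrix.trace_mul_comm, ← mul_assoc, ← Units.val_mul, inv_mul_cancel, Units.val_one, one_mul, coe_tv,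
      Matrix.trace_add, Matrix.trace_one]
    have h5 : (1 : F) + 1 = 0 := by
      have := CharTwo.two_eq_zero (R := F)
      rwa [← one_add_one_eq_two] at this
    have h6 : (single k l c' : Matrix (Fin 3) (Fin 3) F).trace = 0 := by
      rw [Matrix.trace_fin_three, single_apply, single_apply, single_apply]
      have h7 : ∀ m : Fin 3, ¬ (k = m ∧ l = m) := by
        rintro m ⟨rfl, rfl⟩
        exact hkl rfl
      rw [if_neg (h7 0), if_neg (h7 1), if_neg (h7 2)]
      simp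
    rw [h6, add_zero, Fintype.card_fin]
    have h8 : ((3 : ℕ) : F) = 1 + (1 + 1) := by norm_num
    rw [h8, h5, add_zero]
  have hr1 : r = 1 := by
    have := congrArg Matrix.trace hr
    rw [htr2, Matrix.trace_smul, htr1, smul_eq_mul, mul_one] at this
    exact this.symm
  rw [hr1, one_smul] at hr
  have h9 : (A : Matrix (Fin 3) (Fin 3) F) * (TV hkl c' : Matrix.SpecialLinearGroup (Fin 3) F) =
      ((TV hij c * w : Matrix.SpecialLinearGroup (Fin 3) F) : Matrix (Fin 3) (Fin 3) F) * A := by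
    rw [← hr, mul_assoc _ _ (A : Matrix (Fin 3) (Fin 3) F), ← Units.val_mul, inv_mul_cancel, Units.val_one, mul_one]
  rw [Matrix.SpecialLinearGroup.coe_mul, coe_tv, coe_tv, hd] at h9
  exact h9

theorem h01 : (0 : Fin 3) ≠ 1 := by decide
theorem h12 : (1 : Fin 3) ≠ 2 := by decide

theorem lift_eq_conj (e : MulAut (Matrix.SpecialLinearGroup (Fin 3) F)) (U : Matrix.SpecialLinearGroup (Fin 3) F)
    (h : ∀ g, e g * U = U * g) : lift e = MulAut.conj (pr U) := by
  apply MulEquiv.ext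
  intro x
  obtain ⟨g, rfl⟩ := pr_surjective x
  rw [lift_pr, MulAut.conj_apply, eq_mul_inv_iff_mul_eq, ← map_mul, h, map_mul]

/-- **`PSL₃(F)` is rigid.** -/
theorem rigid_psl3 [Fintype F] [CharP F 2] : Rigid (Matrix.ProjectiveSpecialLinearGroup (Fin 3) F) := by
  have h2 : Fact (Nat.Prime 2) := ⟨Nat.prime_two⟩
  obtain ⟨S, hS⟩ := exists_sylow (F := F) 3 2
  refine rigid_of_one S ?_
  intro α hα
  rcases Cfsg.Agent.ClassicalGeometry.AutPSL.Main.surj_three 2 (by norm_num) α with ⟨A, σ, rfl⟩ | ⟨A, σ, rfl⟩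
  · have e01 : ∀ c : F, (cj A * fld σ : MulAut (Matrix.SpecialLinearGroup (Fin 3) F)) (TV h01 c) =
        cj A (TV h01 (σ c)) := fun c => by
      rw [MulAut.mul_apply, fld_transvection]
    have e12 : ∀ c : F, (cj A * fld σ : MulAut (Matrix.SpecialLinearGroup (Fin 3) F)) (TV h12 c) =
        cj A (TV h12 (σ c)) := fun c => by
      rw [MulAut.mul_apply, fld_transvection]
    have k01 := fun c => key S hS _ hα A h01 (by decide) h01 _ _ (e01 c)
    have k12 := fun c => key S hS _ hα A h12 (by decide) h12 _ _ (e12 c)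
    set M : Matrix (Fin 3) (Fin 3) F := (A : Matrix (Fin 3) (Fin 3) F) with hM
    have hdet : M.det ≠ 0 := by
      rw [hM, ← Matrix.GeneralLinearGroup.val_det_apply]
      exact Units.ne_zero _
    have q10 : M 1 0 = 0 ∧ M 2 0 = 0 ∧ ∃ d, M 0 0 = M 1 1 + d * M 2 1 := by
      obtain ⟨d, hd⟩ := k01 1
      have a1 := congrFun (congrFun hd 1) 1
      have a2 := congrFun (congrFun hd 2) 1
      have a3 := congrFun (congrFun hd 0) 1
      simp only [Matrix.mul_apply, Fin.sum_univ_three, Matrix.one_apply, single_apply, mul_add, add_mul, _root_.Fin.isValue, _root_.map_one, _root_.Matrix.add_apply, _root_.and_true, _root_.mul_ite, _root_.mul_one, _root_.MulZeroClass.mul_zero, _root_.zero_ne_one, ↓ _root_.reduceIte, _root_.zero_add, _root_.add_zero, _root_.Fin.reduceEq, _root_.one_mul, _root_.ne_eq, _root_.one_ne_zero, _root_.not_false_eq_true, _root_.Matrix.single_mul_single_of_ne, _root_.false_and, _root_.Matrix.single_apply_of_ne, _root_.ite_mul,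 _root_.MulZeroClass.zero_mul, _root_.Finset.sum_ite_eq, _root_.Finset.mem_univ, _root_.add_eq_right, _root_.true_and] at a1 a2 a3
      exact ⟨a1, a2, d, by linear_combination a3⟩
    have q21 : M 2 1 = 0 := by
      obtain ⟨d, hd⟩ := k12 1
      have a2 := congrFun (congrFun hd 1) 1
      simp only [Matrix.mul_apply, Fin.sum_univ_three, Matrix.one_apply, single_apply, mul_add, add_mul, _root_.Fin.isValue, _root_.map_one, _root_.Matrix.add_apply, _root_.Fin.reduceEq, _root_.and_false, _root_.not_false_eq_true, _root_.Matrix.single_apply_of_ne, _root_.add_zero, _root_.mul_ite, _root_.mul_one, _root_.MulZeroClass.mul_zero, _root_.Finset.sum_ite_eq', _root_.Finset.mem_univ, ↓ _root_.reduceIte, _root_.one_mul, _root_.ne_eq, _root_.Matrix.single_mul_single_of_ne, _root_.true_and, _root_.zero_ne_one, _root_.false_and, _root_.ite_mul, _root_.MulZeroClass.zero_mul, _root_.one_ne_zero, _root_.zero_add, _root_.left_eq_add] at a2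
      exact a2
    have q12 : ∀ c : F, M 1 1 * σ c = c * M 2 2 := by
      intro c
      obtain ⟨d, hd⟩ := k12 c
      have a3 := congrFun (congrFun hd 1) 2
      simp only [Matrix.mul_apply, Fin.sum_univ_three, Matrix.one_apply, single_apply, mul_add, add_mul, _root_.Fin.isValue, _root_.Matrix.add_apply, _root_.and_true, _root_.mul_ite, _root_.mul_one, _root_.MulZeroClass.mul_zero, _root_.Fin.reduceEq, ↓ _root_.reduceIte, _root_.one_ne_zero, _root_.add_zero, _root_.zero_add, _root_.one_mul, _root_.ne_eq, _root_.not_false_eq_true, _root_.Matrix.single_mul_single_of_ne, _root_.true_and, _root_.zero_ne_one, _root_.false_and, _root_.Matrix.single_apply_of_ne, _root_.ite_mul, _root_.MulZeroClass.zero_mul] at a3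
      linear_combination a3
    obtain ⟨m10, m20, d, m00⟩ := q10
    rw [q21, mul_zero, add_zero] at m00
    have m22 : M 1 1 = M 2 2 := by
      have := q12 1
      rwa [map_one, mul_one, one_mul] at this
    rw [Matrix.det_fin_three, m10, m20, q21, m00, ← m22] at hdet
    have m11 : M 1 1 ≠ 0 := by
      intro h0
      apply hdet
      rw [h0]
      ring
    have hσ : σ = 1 := by
      apply RingEquiv.ext
      intro c
      have h3 := q12 c
      rw [← m22, mul_comm c] at h3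
      exact mul_left_cancel₀ m11 h3
    subst hσ
    have hdet1 : ((M 1 1)⁻¹ • M).det = 1 := by
      rw [Matrix.det_smul, Fintype.card_fin, Matrix.det_fin_three, m10, m20, q21, m00, ← m22]
      field_simp
      ring
    refine ⟨pr ⟨(M 1 1)⁻¹ • M, hdet1⟩, lift_eq_conj _ _ ?_⟩
    intro g
    apply Subtype.ext
    have hfld : (fld (1 : F ≃+* F) g : Matrix.SpecialLinearGroup (Fin 3) F) = g := by
      rw [map_one]; rfl
    change (M * (fld (1 : F ≃+* F) g : Matrix.SpecialLinearGroup (Fin 3) F).1 *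
      ((A⁻¹ : GL (Fin 3) F) : Matrix (Fin 3) (Fin 3) F)) * ((M 1 1)⁻¹ • M) = ((M 1 1)⁻¹ • M) * g.1
    rw [hfld, Matrix.mul_smul, mul_assoc, hM, ← Units.val_mul, inv_mul_cancel, Units.val_one, mul_one,
      Matrix.smul_mul]
  · exfalso
    have e01 : ∀ c : F, (cj A * fld σ * itr : MulAut (Matrix.SpecialLinearGroup (Fin 3) F)) (TV h01 c) =
        cj A (TV h01.symm (σ (-c))) := fun c => by
      rw [MulAut.mul_apply, MulAut.mul_apply, itr_transvection, fld_transvection]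
    have e12 : ∀ c : F, (cj A * fld σ * itr : MulAut (Matrix.SpecialLinearGroup (Fin 3) F)) (TV h12 c) =
        cj A (TV h12.symm (σ (-c))) := fun c => by
      rw [MulAut.mul_apply, MulAut.mul_apply, itr_transvection, fld_transvection]
    have k01 := key S hS _ hα A h01 (by decide) h01.symm _ _ (e01 1)
    have k12 := key S hS _ hα A h12 (by decide) h12.symm _ _ (e12 1)
    set M : Matrix (Fin 3) (Fin 3) F := (A : Matrix (Fin 3) (Fin 3) F) with hM
    have hdet : M.det ≠ 0 := by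
      rw [hM, ← Matrix.GeneralLinearGroup.val_det_apply]
      exact Units.ne_zero _
    have m21 : M 2 1 = 0 := by
      obtain ⟨d, hd⟩ := k01
      have a1 := congrFun (congrFun hd 2) 0
      simp only [Matrix.mul_apply, Fin.sum_univ_three, Matrix.one_apply, single_apply, mul_add, add_mul, _root_.Fin.isValue, _root_.RingEquiv.map_neg_one, _root_.Matrix.add_apply, _root_.and_true, _root_.mul_ite, _root_.mul_one, _root_.MulZeroClass.mul_zero, _root_.mul_neg, ↓ _root_.reduceIte, _root_.one_ne_zero, _root_.add_zero, _root_.zero_add, _root_.Fin.reduceEq, _root_.one_mul, _root_.ne_eq, _root_.not_false_eq_true, _root_.Matrix.single_mul_single_of_ne, _root_.false_and, _root_.Matrix.single_apply_of_ne, _root_.ite_mul, _root_.MulZeroClass.zero_mul, _root_.Finset.sum_ite_eq, _root_.Finset.mem_univ, _root_.add_eq_left, _root_.neg_eq_zero] at a1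
      exact a1
    have m22 : M 2 2 = 0 ∧ M 2 0 = 0 := by
      obtain ⟨d, hd⟩ := k12
      have a1 := congrFun (congrFun hd 2) 1
      have a2 := congrFun (congrFun hd 1) 0
      simp only [Matrix.mul_apply, Fin.sum_univ_three, Matrix.one_apply, single_apply, mul_add, add_mul, _root_.Fin.isValue, _root_.RingEquiv.map_neg_one, _root_.Matrix.add_apply, _root_.and_true, _root_.mul_ite, _root_.mul_one, _root_.MulZeroClass.mul_zero, _root_.mul_neg, _root_.zero_ne_one, ↓ _root_.reduceIte, _root_.Fin.reduceEq, _root_.add_zero, _root_.zero_add, _root_.one_mul, _root_.ne_eq, _root_.not_false_eq_true, _root_.Matrix.single_mul_single_of_ne, _root_.false_and, _root_.Matrix.single_apply_of_ne, _root_.ite_mul, _root_.MulZeroClass.zero_mul, _root_.Finset.sum_ite_eq, _root_.Finset.mem_univ, _root_.add_eq_left, _root_.neg_eq_zero, _root_.one_ne_zero, _root_.and_false, _root_.Finset.sum_ite_eq', _root_.true_and, _root_.left_eq_add] at a1 a2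
      exact ⟨a1, a2⟩
    rw [Matrix.det_fin_three, m21, m22.1, m22.2] at hdet
    apply hdet
    ring

end psl

end Cfsg.Agent.H306.AB
end

-- part: H306/AB/RigidSp
section
/-!
# `PSp₄(F)` is rigid, `F` of characteristic two (helper306)
-/

set_option autoImplicit false
open Cfsg
open scoped Matrix

namespace Cfsg.Agent.H306.AB.Sp

open Subgroup
open Cfsg.Agent.ClassicalGeometry.SympBasic
open Cfsg.Agent.ClassicalGeometry.SympSiegel
open Cfsg.Agent.ClassicalGeometry.SympAutSemi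
open Cfsg.Agent.ClassicalGeometry.SympAutCentral
open Cfsg.Agent.TypeSpFour.Model Cfsg.Agent.TypeSpFour.Coords

variable {F : Type*} [Field F]

local notation "Sp" => Matrix.symplecticGroup (Fin 2) F
local notation "V" => Fin 2 ⊕ Fin 2 → F

/-- the explicit Sylow 2-subgroup -/
theorem exists_sylow [Fintype F] (hF : Even (Fintype.card F)) (h4 : 4 ≤ Fintype.card F) :
    ∃ P : Sylow 2 (Cfsg.PSp 2 F), (P : Subgroup (Cfsg.PSp 2 F)) = (coords_psp hF h4).SS := by
  have hC := coords_psp hF h4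
  have hcard := hC.card_SS
  have hq : 0 < Fintype.card F := Fintype.card_pos
  have hq2 : ∃ k, Fintype.card F = 2 ^ k := by
    obtain ⟨p, hp⟩ := CharP.exists F
    have hpp : p.Prime := CharP.char_prime_of_ne_zero F (CharP.char_ne_zero_of_finite F p)
    have : Fact p.Prime := ⟨hpp⟩
    obtain ⟨n, -, hn⟩ := FiniteField.card F p
    have h2 : 2 ∣ p := by
      have := hF.two_dvd
      rw [hn] at this
      exact Nat.prime_two.dvd_of_dvd_pow this
    have h3 : p = 2 := ((Nat.prime_dvd_prime_iff_eq Nat.prime_two hpp).1 h2).symm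
    exact ⟨n, by rw [hn, h3]⟩
  have hp : IsPGroup 2 hC.SS := by
    obtain ⟨k, hk⟩ := hq2
    rw [Nat.card_eq_fintype_card (α := F), hk, ← pow_mul] at hcard
    exact IsPGroup.of_card hcard
  have : Finite (Matrix.symplecticGroup (Fin 2) F) := inferInstance
  have : Finite (Cfsg.PSp 2 F) := inferInstance
  have hidx : ¬ 2 ∣ hC.SS.index := by
    have h1 := hC.SS.card_mul_index
    rw [hcard, card_PSp hF, Nat.card_eq_fintype_card (α := F)] at h1
    have h2 := Nat.eq_of_mul_eq_mul_left (pow_pos hq 4) h1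
    rw [h2]
    intro h3
    obtain ⟨r, hr⟩ := hF
    have hodd : ∀ n : ℕ, 1 ≤ n → ¬ 2 ∣ Fintype.card F ^ n - 1 := by
      intro n hn h4
      have h5 : 2 ∣ Fintype.card F ^ n := dvd_pow (by rw [hr]; exact ⟨r, by ring⟩) (by omega)
      have h6 : 1 ≤ Fintype.card F ^ n := Nat.one_le_pow _ _ hq
      omega
    rcases (Nat.Prime.dvd_mul Nat.prime_two).1 h3 with h4 | h4
    · exact hodd 2 (by norm_num) h4
    · exact hodd 4 (by norm_num) h4
  exact ⟨hp.toSylow hidx, rfl⟩

/-- `up` as a linear map -/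
theorem up_smul (p r s : F) (v : V) : up p r s • v =
    v + (p * v (Sum.inr 0) + r * v (Sum.inr 1)) • E F 0 + (r * v (Sum.inr 0) + s * v (Sum.inr 1)) • E F 1 := by
  rw [Cfsg.Agent.ClassicalGeometry.SympSiegel.smul_def]
  change Matrix.fromBlocks 1 !![p, r; r, s] 0 1 *ᵥ v = _
  funext i
  rcases i with i | i
  · fin_cases i <;> simp only [Matrix.mulVec, dotProduct, Fin.sum_univ_two, E, _root_.Fin.zero_eta, _root_.Fin.isValue, _root_.Fintype.sum_sum_type, _root_.Matrix.fromBlocks_apply₁₁, _root_.Matrix.one_apply_eq, _root_.one_mul, _root_.ne_eq, _root_.zero_ne_one, _root_.not_false_eq_true, _root_.Matrix.one_apply_ne, _root_.MulZeroClass.zero_mul, _root_.add_zero, _root_.Matrix.fromBlocks_apply₁₂, _root_.Matrix.of_apply, _root_.Matrix.cons_val', _root_.Matrix.cons_val_fin_one, _root_.Matrix.cons_val_zero, _root_.Matrix.cons_val_one, _root_.Pi.add_apply, _root_.Pi.smul_apply, _root_.Pi.single_eq_same, _root_.smul_eq_mul, _root_.mul_one,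 _root_.Sum.inl.injEq, _root_.Pi.single_eq_of_ne, _root_.MulZeroClass.mul_zero, _root_.Fin.mk_one, _root_.one_ne_zero, _root_.zero_add]
  · fin_cases i <;> simp only [Matrix.mulVec, dotProduct, Fin.sum_univ_two, E, _root_.Fin.zero_eta, _root_.Fin.isValue, _root_.Fintype.sum_sum_type, _root_.Matrix.fromBlocks_apply₂₁, _root_.Matrix.zero_apply, _root_.MulZeroClass.zero_mul, _root_.Finset.sum_const_zero, _root_.Matrix.fromBlocks_apply₂₂, _root_.Matrix.one_apply_eq, _root_.one_mul, _root_.ne_eq, _root_.zero_ne_one, _root_.not_false_eq_true, _root_.Matrix.one_apply_ne, _root_.add_zero, _root_.zero_add, _root_.Pi.add_apply, _root_.Pi.smul_apply, _root_.reduceCtorEq, _root_.Pi.single_eq_of_ne, _root_.smul_eq_mul, _root_.MulZeroClass.mul_zero, _root_.Fin.mk_one, _root_.one_ne_zero]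

theorem transv_eq_up (c : F) : transv (E F (1 : Fin 2)) c = up 0 0 c := by
  apply ext_smul
  intro x
  rw [transv_smul, up_smul, form_E_right]
  simp

theorem mk_inj [Finite F] [CharP F 2] {A B : Sp}
    (h : (QuotientGroup.mk A : PSp 2 F) = QuotientGroup.mk B) : A = B :=
  Cfsg.Agent.ClassicalGeometry.Sp4GraphAut.mk_injective (by norm_num) h

/-- the image of the root element `up 0 0 a` -/
theorem exists_image [Fintype F] [CharP F 2] (hF : Even (Fintype.card F)) (h4 : 4 ≤ Fintype.card F)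
    {α : MulAut (PSp 2 F)} (hα : CentMod (coords_psp hF h4).SS α) (a : F) :
    ∃ γ δ : F, α (QuotientGroup.mk (up 0 0 a)) = QuotientGroup.mk (up δ γ a) := by
  have hC := coords_psp hF h4
  have hx : proj F (up 0 0 a) ∈ hC.SS := by
    rw [hC.mem_SS]
    refine ⟨a, 0, 0, 0, ?_⟩
    have e0 : proj F (up 0 0 0) = 1 := hC.c_zero
    have e1 : proj F (lev 0) = 1 := hC.y_zero
    change proj F (up 0 0 a) = proj F (up 0 0 a) * proj F (lev 0) * (proj F (up 0 0 0) * proj F (up 0 0 0))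
    rw [e0, e1, mul_one, mul_one, mul_one]
  obtain ⟨h1, h2⟩ := hα _ hx
  have h3 := hC.isAB.mem_Z_of_comm h1 (fun t ht => (h2 t ht).symm)
  obtain ⟨γ, δ, h5⟩ := hC.mem_AB.1 h3
  refine ⟨γ, δ, ?_⟩
  have h6 : α (proj F (up 0 0 a)) = proj F (up 0 0 a) * (proj F (up 0 γ 0) * proj F (up δ 0 0)) := by
    rw [← h5]; group
  rw [← map_mul, ← map_mul, up_mul, up_mul] at h6
  change α (proj F (up 0 0 a)) = proj F (up δ γ a)
  rw [h6]
  congr 1
  simp

/-- isometries induce inner automorphisms -/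
theorem Psi_inner {g : semiSim 2 F} (h1 : ∀ u v, g.1 (u + v) = g.1 u + g.1 v) (h2 : ∀ (a : F) v, g.1 (a • v) = a • g.1 v)
    (h3 : ∀ u v, sympForm 2 F (g.1 u) (g.1 v) = sympForm 2 F u v) :
    ∃ m : PSp 2 F, Psi 2 F g = MulAut.conj m := by
  obtain ⟨A, hA⟩ := exists_rho_eq g.1 h1 h2 h3
  refine ⟨QuotientGroup.mk A, ?_⟩
  apply MulEquiv.ext
  intro x
  obtain ⟨B, rfl⟩ := QuotientGroup.mk_surjective x
  rw [Psi_mk, MulAut.conj_apply, ← QuotientGroup.mk_inv, ← QuotientGroup.mk_mul, ← QuotientGroup.mk_mul]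
  congr 1
  apply rho_injective
  rw [rho_conjHom, map_mul, map_mul, map_inv, hA]

/-- the scalar `a` as a permutation -/
def scal (a : F) (ha : a ≠ 0) : Equiv.Perm V where
  toFun v := a • v
  invFun v := a⁻¹ • v
  left_inv v := by
    change a⁻¹ • a • v = v
    rw [smul_smul, inv_mul_cancel₀ ha, one_smul]
  right_inv v := by
    change a • a⁻¹ • v = v
    rw [smul_smul, mul_inv_cancel₀ ha, one_smul]

theorem isSemi_scal (a : F) (ha : a ≠ 0) : IsSemi (scal a ha) (RingEquiv.refl F) (a ^ 2) := by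
  refine ⟨fun u v => smul_add a u v, fun b v => ?_, fun u v => ?_⟩
  · change a • b • v = b • a • v
    rw [smul_comm]
  · change sympForm 2 F (a • u) (a • v) = a ^ 2 * sympForm 2 F u v
    rw [sympForm_smul_left, sympForm_smul_right]
    ring

theorem Psi_scal (a : F) (ha : a ≠ 0) (h : scal a ha ∈ semiSim 2 F) : Psi 2 F ⟨scal a ha, h⟩ = 1 := by
  apply MulEquiv.ext
  intro x
  obtain ⟨B, rfl⟩ := QuotientGroup.mk_surjective x
  rw [Psi_mk, MulAut.one_apply]
  congr 1
  apply rho_injective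
  rw [rho_conjHom]
  ext1 v
  change a • (rho 2 F B (a⁻¹ • v)) = rho 2 F B v
  rw [rho_apply, Matrix.mulVec_smul, smul_smul, mul_inv_cancel₀ ha, one_smul, rho_apply]

/-- **`PSp₄(F)` is rigid.** -/
theorem rigid_psp [Fintype F] [CharP F 2] (h4 : 4 ≤ Fintype.card F) : Rigid (PSp 2 F) := by
  have h2 : Fact (Nat.Prime 2) := ⟨Nat.prime_two⟩
  have hF : Even (Fintype.card F) := by
    obtain ⟨n, -, hn⟩ := FiniteField.card F 2
    rw [hn, Nat.even_pow]
    exact ⟨even_two, n.2.ne'⟩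
  have : Finite (Matrix.symplecticGroup (Fin 2) F) := inferInstance
  have : Finite (Cfsg.PSp 2 F) := inferInstance
  obtain ⟨P, hP⟩ := exists_sylow hF h4
  refine rigid_of_one P ?_
  intro α hα
  rw [hP] at hα
  have key := exists_image hF h4 hα
  rcases Cfsg.Agent.ClassicalGeometry.SympAutTwo.recog_two (exists_four h4) α with hpres | hne
  · obtain ⟨g, rfl⟩ := Cfsg.Agent.ClassicalGeometry.SympAutExists.exists_semi le_rfl α hpres
    obtain ⟨φ, l, hl, hg⟩ := g.2
    -- evaluate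
    have hev : ∀ a : F, (φ a * l⁻¹) * (g.1 (E F 1) (Sum.inl 1)) ^ 2 = a := by
      intro a
      obtain ⟨γ, δ, hgd⟩ := key a
      rw [Psi_mk] at hgd
      have h5 := mk_inj hgd
      rw [← transv_eq_up, conjHom_transv g hl hg] at h5
      have h6 := congrArg (fun s : Sp => (s • (E' F (1 : Fin 2) : V)) (Sum.inl 1)) h5
      simp only [transv_smul, up_smul, form_E'_left, Pi.add_apply, Pi.smul_apply, E'_inl, E_inl, E'_inr,
        smul_eq_mul] at h6
      simp only [_root_.Fin.isValue, _root_.zero_add, _root_.zero_ne_one, ↓ _root_.reduceIte, _root_.MulZeroClass.mul_zero, _root_.mul_one, _root_.one_ne_zero, _root_.add_zero] at h6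
      linear_combination h6
    set μ := g.1 (E F 1) (Sum.inl 1) with hμ
    have hev1 := hev 1
    rw [map_one, one_mul] at hev1
    have hμ0 : μ ≠ 0 := by
      intro h0
      rw [h0] at hev1
      simp at hev1
    have hlμ : l = μ ^ 2 := by
      have := hl
      field_simp at hev1
      exact hev1.symm
    have hφ : ∀ a, φ a = a := by
      intro a
      have h5 := hev a
      have h6 : (φ a * l⁻¹) * μ ^ 2 = φ a * (l⁻¹ * μ ^ 2) := by ring
      rw [h6, hev1, mul_one] at h5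
      exact h5
    have hs : scal μ⁻¹ (inv_ne_zero hμ0) ∈ semiSim 2 F :=
      ⟨RingEquiv.refl F, _, pow_ne_zero 2 (inv_ne_zero hμ0), isSemi_scal _ _⟩
    obtain ⟨m, hm⟩ := Psi_inner (g := ⟨scal μ⁻¹ (inv_ne_zero hμ0), hs⟩ * g) (by
        intro u v
        change μ⁻¹ • g.1 (u + v) = μ⁻¹ • g.1 u + μ⁻¹ • g.1 v
        rw [hg.1, smul_add]) (by
        intro a v
        change μ⁻¹ • g.1 (a • v) = a • μ⁻¹ • g.1 v
        rw [hg.2.1, hφ, smul_comm]) (by
        intro u v
        change sympForm 2 F (μ⁻¹ • g.1 u) (μ⁻¹ • g.1 v) = _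
        rw [sympForm_smul_left, sympForm_smul_right, hg.2.2, hφ, hlμ]
        field_simp)
    refine ⟨m, ?_⟩
    rw [← hm, map_mul, Psi_scal, one_mul]
  · exfalso
    obtain ⟨s, ⟨b, hb, rfl⟩, hconj⟩ := hne (E F 1) (E_ne_zero 1) 1 one_ne_zero
    obtain ⟨γ, δ, hgd⟩ := key 1
    rw [transv_eq_up, hgd, isConj_iff] at hconj
    obtain ⟨c, hc⟩ := hconj
    obtain ⟨A, rfl⟩ := QuotientGroup.mk_surjective c
    rw [← QuotientGroup.mk_inv, ← QuotientGroup.mk_mul, ← QuotientGroup.mk_mul] at hc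
    have h5 := mk_inj hc
    have hz : ∀ x : V, sympForm 2 F x ((A * Cfsg.Agent.ClassicalGeometry.Sp4GraphAut.S b * A⁻¹ : Sp) • x) = 0 := by
      intro x
      have h7 : (A * Cfsg.Agent.ClassicalGeometry.Sp4GraphAut.S b * A⁻¹ : Sp) • x =
          A • ((Cfsg.Agent.ClassicalGeometry.Sp4GraphAut.S b : Sp) • (A⁻¹ • x)) := by
        rw [mul_smul, mul_smul]
      rw [h7]
      have h8 : sympForm 2 F x (A • ((Cfsg.Agent.ClassicalGeometry.Sp4GraphAut.S b : Sp) • (A⁻¹ • x))) =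
          sympForm 2 F (A⁻¹ • x) ((Cfsg.Agent.ClassicalGeometry.Sp4GraphAut.S b : Sp) • (A⁻¹ • x)) := by
        conv_lhs => rw [← smul_inv_smul A x]
        rw [form_smul, inv_smul_smul]
      rw [h8]
      set y : V := A⁻¹ • x
      have h9 : (Cfsg.Agent.ClassicalGeometry.Sp4GraphAut.S b : Sp) • y =
          y + (b * y (.inr 1)) • E F 0 + (b * y (.inr 0)) • E F 1 :=
        Cfsg.Agent.ClassicalGeometry.Sp4GraphAut.S_mulVec b y
      rw [h9, sympForm_add_right, sympForm_add_right, sympForm_self, sympForm_smul_right, sympForm_smul_right,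
        form_E_right, form_E_right]
      have h10 := CharTwo.two_eq_zero (R := F)
      linear_combination (b * y (.inr 1) * y (.inr 0)) * h10
    have h6 := hz (E' F 1)
    rw [h5, up_smul, form_E'_left] at h6
    simp [E'_inl, E_inl, E'_inr] at h6

end Cfsg.Agent.H306.AB.Sp
end

-- part: H306/AB/Models
section
/-!
# Indices in the Sylow 2-subgroups of `PSL₃(F)` and `PSp₄(F)` (helper306)
-/

set_option autoImplicit false
open Cfsg

namespace Cfsg.Agent.H306.AB.Models

open Subgroup Cfsg.Agent.Lib.GoldschmidtFusion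

section general

variable {G : Type*} [Group G]

theorem relIndex_of_prod {S A B : Subgroup G} (hA : A ≤ S) (hB : B ≤ S) (hn : S ≤ normalizer (A : Set G))
    (hprod : ∀ s ∈ S, ∃ a ∈ A, ∃ b ∈ B, a * b = s) : A.relIndex S = A.relIndex B := by
  have hN : (A.subgroupOf S).Normal := by
    rw [normal_subgroupOf_iff_le_normalizer hA]
    exact hn
  have htop : A.subgroupOf S ⊔ B.subgroupOf S = ⊤ := by
    rw [eq_top_iff]
    rintro ⟨s, hs⟩ -
    obtain ⟨a, ha, b, hb, rfl⟩ := hprod s hs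
    have e : (⟨a * b, hs⟩ : S) = ⟨a, hA ha⟩ * ⟨b, hB hb⟩ := rfl
    rw [e]
    exact mul_mem (mem_sup_left (mem_subgroupOf.2 ha)) (mem_sup_right (mem_subgroupOf.2 hb))
  have h1 : (A.subgroupOf S).relIndex (A.subgroupOf S ⊔ B.subgroupOf S) =
      (A.subgroupOf S).relIndex (B.subgroupOf S) := relIndex_sup_left _ _
  rw [htop, relIndex_top_right, relIndex_subgroupOf hB] at h1
  exact h1

theorem card_mul_relIndex {A B : Subgroup G} (h : A ≤ B) : Nat.card A * A.relIndex B = Nat.card B := by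
  have h1 := (A.subgroupOf B).card_mul_index
  rw [Nat.card_congr (subgroupOfEquivOfLe h).toEquiv] at h1
  exact h1

theorem card_inf_mul_relIndex {A B : Subgroup G} : Nat.card (A ⊓ B : Subgroup G) * A.relIndex B = Nat.card B := by
  rw [← inf_relIndex_right]
  exact card_mul_relIndex inf_le_right

theorem eq_of_model {P E₁ E₂ A B : Subgroup G} (h : TypeL3.IsAB P E₁ E₂) (hA : A ≤ P) (hB : B ≤ P)
    (Asq : ∀ x ∈ A, x * x = 1) (Bsq : ∀ x ∈ B, x * x = 1) (hprod : ∀ s ∈ P, ∃ a ∈ A, ∃ b ∈ B, a * b = s)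
    (hder : ⁅P, P⁆ ≤ A ⊓ B) : (A = E₁ ∧ B = E₂) ∨ (A = E₂ ∧ B = E₁) := by
  have key : ∀ {P E₁ E₂ A B : Subgroup G}, TypeL3.IsAB P E₁ E₂ → (∀ s ∈ P, ∃ a ∈ A, ∃ b ∈ B, a * b = s) →
      ⁅P, P⁆ ≤ A ⊓ B → A ≤ E₁ → B ≤ E₂ → E₁ ≤ A := by
    intro P E₁ E₂ A B h hprod hder h1 h2 e he
    obtain ⟨a, ha, b, hb, rfl⟩ := hprod e (h.A_le he)
    have hb1 : b ∈ E₁ := by
      have := mul_mem (inv_mem (h1 ha)) he
      rwa [inv_mul_cancel_left] at this
    exact mul_mem ha (hder (h.der (mem_inf.2 ⟨hb1, h2 hb⟩))).1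
  have hprod' : ∀ s ∈ P, ∃ b ∈ B, ∃ a ∈ A, b * a = s := by
    intro s hs
    obtain ⟨a, ha, b, hb, e⟩ := hprod s⁻¹ (inv_mem hs)
    exact ⟨b⁻¹, inv_mem hb, a⁻¹, inv_mem ha, by rw [← mul_inv_rev, e, inv_inv]⟩
  have hder' : ⁅P, P⁆ ≤ B ⊓ A := by rwa [inf_comm]
  have hnot : ∀ {E₁ E₂ : Subgroup G}, TypeL3.IsAB P E₁ E₂ → A ≤ E₁ → B ≤ E₁ → False := by
    intro E₁ E₂ h h1 h2
    obtain ⟨b, hb, hb'⟩ := h.neB
    apply hb'
    obtain ⟨x, hx, y, hy, rfl⟩ := hprod b (h.B_le hb)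
    exact mul_mem (h1 hx) (h2 hy)
  rcases h.le_or_le hA Asq with h1 | h1 <;> rcases h.le_or_le hB Bsq with h2 | h2
  · exact absurd (hnot h h1 h2) not_false
  · exact Or.inl ⟨le_antisymm h1 (key h hprod hder h1 h2), le_antisymm h2 (key h.symm hprod' hder' h2 h1)⟩
  · exact Or.inr ⟨le_antisymm h1 (key h.symm hprod hder h1 h2), le_antisymm h2 (key h hprod' hder' h2 h1)⟩
  · exact absurd (hnot h.symm h1 h2) not_false

end general

/-- the type of a Sylow 2-subgroup: `E₁`, `E₂` of index `q` -/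
def HasModel {M : Type*} [Group M] (P : Subgroup M) (q : ℕ) : Prop :=
  ∃ E₁ E₂ : Subgroup M, TypeL3.IsAB P E₁ E₂ ∧ E₁.relIndex P = q ∧ E₂.relIndex P = q

theorem HasModel.index {M : Type*} [Group M] {P A B : Subgroup M} {q : ℕ} (h : HasModel P q) (hA : A ≤ P)
    (hB : B ≤ P) (Asq : ∀ x ∈ A, x * x = 1) (Bsq : ∀ x ∈ B, x * x = 1)
    (hprod : ∀ s ∈ P, ∃ a ∈ A, ∃ b ∈ B, a * b = s) (hder : ⁅P, P⁆ ≤ A ⊓ B) :
    A.relIndex P = q ∧ B.relIndex P = q := by
  obtain ⟨E₁, E₂, h, h1, h2⟩ := h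
  rcases eq_of_model h hA hB Asq Bsq hprod hder with ⟨rfl, rfl⟩ | ⟨rfl, rfl⟩
  · exact ⟨h1, h2⟩
  · exact ⟨h2, h1⟩

theorem HasModel.map {M N : Type*} [Group M] [Group N] {P : Subgroup M} {q : ℕ} (h : HasModel P q) (e : M ≃* N) :
    HasModel (P.map e.toMonoidHom) q := by
  obtain ⟨E₁, E₂, h, h1, h2⟩ := h
  have hinj : ∀ x ∈ P, e.toMonoidHom x = 1 → x = 1 := fun x _ hx =>
    e.injective (hx.trans (map_one e).symm)
  refine ⟨_, _, h.map e.toMonoidHom hinj, ?_, ?_⟩
  · rw [relIndex_map_map_of_injective _ _ e.injective, h1]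
  · rw [relIndex_map_map_of_injective _ _ e.injective, h2]

variable {F : Type*} [Field F]

theorem psl3 [Fintype F] [CharP F 2] (P : Sylow 2 (Matrix.ProjectiveSpecialLinearGroup (Fin 3) F)) :
    HasModel (P : Subgroup (Matrix.ProjectiveSpecialLinearGroup (Fin 3) F)) (Fintype.card F) := by
  have h2 : Fact (Nat.Prime 2) := ⟨Nat.prime_two⟩
  obtain ⟨e⟩ := SylowL.SylowPSL.sylow_equiv 2 P
  obtain ⟨A, B, x, y, z, h, -⟩ := TypeL3.exists_isL3 e
  have hq : 0 < Fintype.card F := Fintype.card_pos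
  have key : ∀ {A B : Subgroup (Matrix.ProjectiveSpecialLinearGroup (Fin 3) F)},
      TypeL3.IsL3 (P : Subgroup _) A B (Fintype.card F) → A.relIndex (P : Subgroup _) = Fintype.card F := by
    intro A B h
    rw [relIndex_of_prod h.A_le h.B_le h.toIsAB.S_le_normalizer_A h.prod]
    have h3 := card_inf_mul_relIndex (A := A) (B := B)
    rw [h.card_Z, h.card_B, pow_two] at h3
    exact Nat.eq_of_mul_eq_mul_left hq h3
  exact ⟨A, B, h.toIsAB, key h, key h.symm⟩

theorem psp [Fintype F] [CharP F 2] (h4 : 4 ≤ Fintype.card F) (P : Sylow 2 (Cfsg.PSp 2 F)) :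
    HasModel (P : Subgroup (Cfsg.PSp 2 F)) (Fintype.card F) := by
  have h2 : Fact (Nat.Prime 2) := ⟨Nat.prime_two⟩
  have hF : Even (Fintype.card F) := by
    obtain ⟨n, -, hn⟩ := FiniteField.card F 2
    rw [hn, Nat.even_pow]
    exact ⟨even_two, n.2.ne'⟩
  have : Finite (Matrix.symplecticGroup (Fin 2) F) := inferInstance
  have : Finite (Cfsg.PSp 2 F) := inferInstance
  obtain ⟨P0, hP0⟩ := Sp.exists_sylow hF h4
  obtain ⟨A, B, x, y, c, d, h⟩ := TypeSpFour.Model.exists_halfC2 hF h4 P (P : Subgroup (Cfsg.PSp 2 F))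
    ⟨MulEquiv.refl _⟩
  have hq : 0 < Fintype.card F := Fintype.card_pos
  have hP : Nat.card P = Fintype.card F ^ 4 := by
    rw [Nat.card_congr (Sylow.equiv P P0).toEquiv]
    have h3 := (TypeSpFour.Model.coords_psp hF h4).card_SS
    rw [← hP0, Nat.card_eq_fintype_card (α := F)] at h3
    exact h3
  have hA := h.card_A
  have hZ := h.card_Z
  rw [Nat.card_eq_fintype_card (α := F)] at hA hZ
  refine ⟨A, B, h.toIsAB, ?_, ?_⟩
  · have h3 := card_mul_relIndex h.A_le
    rw [hA, hP, pow_succ (Fintype.card F) 3] at h3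
    exact Nat.eq_of_mul_eq_mul_left (pow_pos hq 3) h3
  · rw [relIndex_of_prod h.B_le h.A_le h.toIsAB.S_le_normalizer_B h.toIsAB.symm.prod]
    have h3 := card_inf_mul_relIndex (A := B) (B := A)
    rw [inf_comm, hZ, hA, pow_succ (Fintype.card F) 2] at h3
    exact Nat.eq_of_mul_eq_mul_left (pow_pos hq 2) h3

end Cfsg.Agent.H306.AB.Models
end

-- part: H306/AB/Quasi
section
/-!
# Quasisimple groups with Sylow 2-subgroup `P = AB` (helper306)
-/

set_option autoImplicit false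
open Cfsg

namespace Cfsg.Agent.H306.AB

open Subgroup Cfsg.Agent.Lib.GoldschmidtFusion

universe u

/-- the possibilities for a simple group with a Sylow 2-subgroup of class two -/
def Cl2 (G : Type*) [Group G] : Prop :=
  ¬ 16 ∣ Nat.card G ∨
    (∀ S : Sylow 2 G, ∀ x ∈ (S : Subgroup G), x * x = 1 → ∀ y ∈ (S : Subgroup G), x * y = y * x) ∨
    ∃ (F : Type) (_ : Field F) (_ : Fintype F), CharP F 2 ∧ 4 ≤ Fintype.card F ∧
      (Nonempty (G ≃* Matrix.ProjectiveSpecialLinearGroup (Fin 3) F) ∨ Nonempty (G ≃* Cfsg.PSp 2 F))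

/-- simple groups with a Sylow 2-subgroup of class two -/
def Cl2Thm : Prop :=
  ∀ (G : Type u) [Group G] [Finite G] [IsSimpleGroup G] (S : Sylow 2 G),
    (¬ ∀ x ∈ (S : Subgroup G), ∀ y ∈ (S : Subgroup G), x * y = y * x) →
    (∀ x ∈ (S : Subgroup G), ∀ y ∈ (S : Subgroup G), ∀ z ∈ (S : Subgroup G),
      (x * y * x⁻¹ * y⁻¹) * z = z * (x * y * x⁻¹ * y⁻¹)) → Cl2 G

/-- Walter's theorem for simple groups -/
def WalThm : Prop :=
  ∀ (K : Type u) [Group K] [Finite K], IsSimpleGroup K → ¬ IsMulCommutative K →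
    ∀ S : Sylow 2 K, (∀ a ∈ (S : Subgroup K), ∀ b ∈ (S : Subgroup K), a * b = b * a) → Walter.Types.WType K

/-- transfer: the centre of a perfect group and the commutators of a Sylow 2-subgroup -/
theorem center_mem {X : Type*} [Group X] [Finite X] (hX : commutator X = ⊤) (P : Sylow 2 X) {W : Subgroup X}
    (hWc : ∀ w ∈ W, ∀ x ∈ (P : Subgroup X), w * x = x * w)
    (hcom : ∀ x ∈ (P : Subgroup X), ∀ y ∈ (P : Subgroup X), ∃ w ∈ W, x * y = y * x * w) {z : X}
    (hz : z ∈ center X) (hzP : z ∈ (P : Subgroup X)) : z ∈ W := by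
  have h2 : Fact (Nat.Prime 2) := ⟨Nat.prime_two⟩
  set T : Subgroup X := (P : Subgroup X) with hT
  let W' : Subgroup T := W.subgroupOf T
  have hn : W'.Normal := by
    refine ⟨fun w hw g => ?_⟩
    have h1 := hWc _ (mem_subgroupOf.1 hw) g g.2
    have h3 : g * w * g⁻¹ = w := by
      apply Subtype.ext
      change (g : X) * w * (g : X)⁻¹ = w
      rw [← h1, mul_inv_cancel_right]
    rw [h3]; exact hw
  let i : CommGroup (T ⧸ W') :=
    { (inferInstance : Group (T ⧸ W')) with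
      mul_comm := by
        intro a b
        obtain ⟨x, rfl⟩ := QuotientGroup.mk_surjective a
        obtain ⟨y, rfl⟩ := QuotientGroup.mk_surjective b
        obtain ⟨w, hw, e⟩ := hcom x x.2 y y.2
        rw [← QuotientGroup.mk_mul, ← QuotientGroup.mk_mul, QuotientGroup.eq]
        have h5 : ((x * y)⁻¹ * (y * x) : T) = ⟨w⁻¹, by
            have h6 : w⁻¹ = (x * y : X)⁻¹ * (y * x) := by rw [e]; group
            rw [h6]
            exact T.mul_mem (T.inv_mem (T.mul_mem x.2 y.2)) (T.mul_mem y.2 x.2)⟩ := by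
          apply Subtype.ext
          change (x * y : X)⁻¹ * (y * x) = w⁻¹
          rw [e]; group
        rw [h5]
        exact mem_subgroupOf.2 (W.inv_mem hw) }
  have h3 := Transfer.CentralTransfer.map_pow_index_eq_one_of_perfect hX (H := T)
    (QuotientGroup.mk' W' : T →* T ⧸ W') ⟨z, hzP⟩ hz
  obtain ⟨k, hk⟩ := P.isPGroup' ⟨z, hzP⟩
  have h4 : (QuotientGroup.mk' W' ⟨z, hzP⟩ : T ⧸ W') ^ 2 ^ k = 1 := by
    rw [← map_pow, hk, map_one]
  have h5 : (2 ^ k).Coprime T.index :=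
    Nat.Coprime.pow_left k ((Nat.Prime.coprime_iff_not_dvd Nat.prime_two).2 P.not_dvd_index)
  have h6 : (QuotientGroup.mk' W' ⟨z, hzP⟩ : T ⧸ W') = 1 := by
    rw [← orderOf_eq_one_iff]
    exact Nat.eq_one_of_dvd_coprimes h5 (orderOf_dvd_of_pow_eq_one h4) (orderOf_dvd_of_pow_eq_one h3)
  exact mem_subgroupOf.1 ((QuotientGroup.eq_one_iff _).1 h6)

namespace IsAB

variable {G : Type*} [Group G] {S A B : Subgroup G}

/-- commutators of `S = AB` lie in `W` if the commutators `[a, b]` do -/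
theorem exists_comm_of (h : IsAB S A B) {W : Subgroup G} (hW : W ≤ A ⊓ B)
    (hbr : ∀ a ∈ A, ∀ b ∈ B, a * b * a⁻¹ * b⁻¹ ∈ W) {x y : G} (hx : x ∈ S) (hy : y ∈ S) :
    ∃ z ∈ W, x * y = y * x * z := by
  obtain ⟨a, ha, b, hb, rfl⟩ := h.prod x hx
  obtain ⟨c, hc, d, hd, rfl⟩ := h.prod y hy
  have hz1 := inv_mem (hbr c hc b hb)
  have hz2 := inv_mem (hbr a ha d hd)
  set z1 := (c * b * c⁻¹ * b⁻¹)⁻¹ with e1
  set z2 := (a * d * a⁻¹ * d⁻¹)⁻¹ with e2
  have hb' := h.B_le hb
  have ha' := h.A_le ha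
  have hc' := h.A_le hc
  have hd' := h.B_le hd
  have f1 : b * c = c * b * z1 := by
    rw [← h.comm_Z (hW hz1) (mul_mem hc' hb'), e1]; group
  have f2 : d * a = a * d * z2 := by
    rw [← h.comm_Z (hW hz2) (mul_mem ha' hd'), e2]; group
  refine ⟨z1 * z2⁻¹, mul_mem hz1 (inv_mem hz2), ?_⟩
  have g1 : a * b * (c * d) = a * c * (b * d) * z1 := by
    calc a * b * (c * d) = a * (b * c) * d := by group
      _ = a * c * b * (z1 * d) := by rw [f1]; group
      _ = a * c * (b * d) * z1 := by rw [h.comm_Z (hW hz1) hd']; group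
  have g2 : c * d * (a * b) = a * c * (b * d) * z2 := by
    calc c * d * (a * b) = c * (d * a) * b := by group
      _ = (c * a) * d * (z2 * b) := by rw [f2]; group
      _ = (c * a) * (d * b) * z2 := by rw [h.comm_Z (hW hz2) hb']; group
      _ = a * c * (b * d) * z2 := by rw [h.A_comm c hc a ha, h.B_comm d hd b hb]
  rw [g1, g2]
  have : a * c * (b * d) * z2 * (z1 * z2⁻¹) = a * c * (b * d) * (z2 * z1) * z2⁻¹ := by group
  rw [this, h.comm_Z (hW hz2) (h.Z_le (hW hz1))]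
  group

theorem comm_mem_of (h : IsAB S A B) {W : Subgroup G} (hW : W ≤ A ⊓ B)
    (hbr : ∀ a ∈ A, ∀ b ∈ B, a * b * a⁻¹ * b⁻¹ ∈ W) {x y : G} (hx : x ∈ S) (hy : y ∈ S) :
    x * y * x⁻¹ * y⁻¹ ∈ W := by
  obtain ⟨z, hz, e⟩ := h.exists_comm_of hW hbr hx hy
  have : x * y * x⁻¹ * y⁻¹ = z := by
    rw [e, mul_assoc (y * x), h.comm_Z (hW hz) (inv_mem hx), mul_assoc (y * x), mul_assoc x⁻¹,
      h.comm_Z (hW hz) (inv_mem hy)]
    group
  rw [this]; exact hz

theorem relIndex_A (h : IsAB S A B) : A.relIndex S = (A ⊓ B).relIndex B := by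
  rw [Models.relIndex_of_prod h.A_le h.B_le h.S_le_normalizer_A h.prod, inf_relIndex_right]

/-- the case that `|A : A ∩ B| = |B : A ∩ B| = 2` -/
theorem br_of_two (h : IsAB S A B) (hi : (A ⊓ B).relIndex A = 2) (hj : (A ⊓ B).relIndex B = 2) {a₀ b₀ : G}
    (ha₀ : a₀ ∈ A) (ha₀' : a₀ ∉ B) (hb₀ : b₀ ∈ B) (hb₀' : b₀ ∉ A) :
    ∀ a ∈ A, ∀ b ∈ B, a * b * a⁻¹ * b⁻¹ ∈ zpowers (a₀ * b₀ * a₀⁻¹ * b₀⁻¹) := by
  intro a ha b hb
  by_cases haB : a ∈ B
  · rw [h.B_comm a haB b hb]
    have : b * a * a⁻¹ * b⁻¹ = 1 := by group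
    rw [this]; exact one_mem _
  by_cases hbA : b ∈ A
  · rw [h.A_comm a ha b hbA]
    have : b * a * a⁻¹ * b⁻¹ = 1 := by group
    rw [this]; exact one_mem _
  have h1 : a₀⁻¹ * a ∈ A ⊓ B := by
    have h3 := (Subgroup.mul_mem_iff_of_index_two (H := (A ⊓ B).subgroupOf A) hi
      (a := ⟨a₀⁻¹, inv_mem ha₀⟩) (b := ⟨a, ha⟩)).2 (by
        constructor
        · intro h4
          exact absurd (by simpa using inv_mem (mem_inf.1 (mem_subgroupOf.1 h4)).2) ha₀'
        · intro h4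
          exact absurd (mem_inf.1 (mem_subgroupOf.1 h4)).2 haB)
    exact mem_subgroupOf.1 h3
  have h2 : b₀⁻¹ * b ∈ A ⊓ B := by
    have h3 := (Subgroup.mul_mem_iff_of_index_two (H := (A ⊓ B).subgroupOf B) hj
      (a := ⟨b₀⁻¹, inv_mem hb₀⟩) (b := ⟨b, hb⟩)).2 (by
        constructor
        · intro h4
          exact absurd (by simpa using inv_mem (mem_inf.1 (mem_subgroupOf.1 h4)).1) hb₀'
        · intro h4
          exact absurd (mem_inf.1 (mem_subgroupOf.1 h4)).1 hbA)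
    exact mem_subgroupOf.1 h3
  obtain ⟨u, hu, hu'⟩ : ∃ u ∈ A ⊓ B, a = a₀ * u := ⟨_, h1, by group⟩
  obtain ⟨v, hv, hv'⟩ : ∃ v ∈ A ⊓ B, b = b₀ * v := ⟨_, h2, by group⟩
  have hb₀S := h.B_le hb₀
  have ha₀S := h.A_le ha₀
  have h5 : a * b * a⁻¹ * b⁻¹ = a₀ * b₀ * a₀⁻¹ * b₀⁻¹ := by
    rw [hu', hv']
    calc a₀ * u * (b₀ * v) * (a₀ * u)⁻¹ * (b₀ * v)⁻¹ = a₀ * (u * b₀) * v * u⁻¹ * a₀⁻¹ * v⁻¹ * b₀⁻¹ := by group
      _ = a₀ * b₀ * (u * (v * u⁻¹)) * a₀⁻¹ * v⁻¹ * b₀⁻¹ := by rw [h.comm_Z hu hb₀S]; group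
      _ = a₀ * b₀ * (v * a₀⁻¹) * v⁻¹ * b₀⁻¹ := by
        rw [h.comm_Z hv (h.Z_le (inv_mem hu))]; group
      _ = a₀ * b₀ * a₀⁻¹ * b₀⁻¹ := by rw [h.comm_Z hv (inv_mem ha₀S)]; group
  rw [h5]; exact mem_zpowers _

end IsAB

theorem rel_ne_zero {X : Type*} [Group X] [Finite X] (H K : Subgroup X) : H.relIndex K ≠ 0 :=
  index_ne_zero_of_finite (H := H.subgroupOf K)

/-- The case of a small Sylow 2-subgroup. -/
theorem card_Z_of_small {X : Type*} [Group X] [Finite X] (hX : commutator X = ⊤) (P : Sylow 2 X)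
    {A B : Subgroup X} (h : IsAB (P : Subgroup X) A B) (hZP : center X ≤ P)
    (hnc : ∃ x ∈ (P : Subgroup X), ∃ y ∈ (P : Subgroup X), x * y * x⁻¹ * y⁻¹ ∉ center X)
    (h16 : ¬ 16 ∣ Nat.card (X ⧸ center X)) : Nat.card (A ⊓ B : Subgroup X) = 2 := by
  have h2 : Fact (Nat.Prime 2) := ⟨Nat.prime_two⟩
  obtain ⟨x, hx, y, hy, hxy⟩ := hnc
  have hZC : center X ≤ A ⊓ B := fun z hz =>
    h.mem_Z_of_comm (hZP hz) (fun t _ => mem_center_iff.1 hz t)
  set C := A ⊓ B with hC
  -- the index of the centre in `P`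
  have h8 : (center X).relIndex P ≤ 8 := by
    have h3 : (center X).relIndex P ∣ Nat.card (X ⧸ center X) := relIndex_dvd_index_of_normal _ _
    have h4 : ∃ k, (center X).relIndex P = 2 ^ k := by
      obtain ⟨n, hn⟩ := P.isPGroup'.exists_card_eq
      have h5 : (center X).relIndex P ∣ 2 ^ n := by
        have := Models.card_mul_relIndex hZP
        rw [hn] at this
        exact Dvd.intro_left _ this
      obtain ⟨k, -, hk⟩ := (Nat.dvd_prime_pow Nat.prime_two).1 h5
      exact ⟨k, hk⟩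
    obtain ⟨k, hk⟩ := h4
    have h5 : k ≤ 3 := by
      by_contra hcon
      apply h16
      refine Dvd.dvd.trans ?_ h3
      rw [hk]
      exact pow_dvd_pow 2 (by omega : 4 ≤ k)
    rw [hk]
    calc 2 ^ k ≤ 2 ^ 3 := Nat.pow_le_pow_right (by norm_num) h5
      _ = 8 := by norm_num
  have hCP : C ≤ P := h.Z_le
  have hmul := relIndex_mul_relIndex (center X) C P hZC hCP
  have hZC2 : 2 ≤ (center X).relIndex C := by
    have h3 : (center X).relIndex C ≠ 0 := rel_ne_zero _ _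
    have h4 : (center X).relIndex C ≠ 1 := by
      intro h5
      rw [relIndex_eq_one] at h5
      exact hxy (h5 (h.comm_mem hx hy))
    omega
  have hCA : C.relIndex P = C.relIndex A * C.relIndex B := by
    rw [← relIndex_mul_relIndex C A P inf_le_left h.A_le, h.relIndex_A]
  have hi2 : 2 ≤ C.relIndex A := by
    have h3 : C.relIndex A ≠ 0 := rel_ne_zero _ _
    have h4 : C.relIndex A ≠ 1 := by
      intro h5
      rw [relIndex_eq_one] at h5
      obtain ⟨a, ha, ha'⟩ := h.neA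
      exact ha' (mem_inf.1 (h5 ha)).2
    omega
  have hj2 : 2 ≤ C.relIndex B := by
    have h3 : C.relIndex B ≠ 0 := rel_ne_zero _ _
    have h4 : C.relIndex B ≠ 1 := by
      intro h5
      rw [relIndex_eq_one] at h5
      obtain ⟨a, ha, ha'⟩ := h.neB
      exact ha' (mem_inf.1 (h5 ha)).1
    omega
  have hCP4 : C.relIndex P ≤ 4 := by nlinarith only [h8, hmul, hZC2]
  have hi : C.relIndex A = 2 := by nlinarith only [hCA, hi2, hj2, hCP4]
  have hj : C.relIndex B = 2 := by nlinarith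
  obtain ⟨a₀, ha₀, ha₀'⟩ := h.neA
  obtain ⟨b₀, hb₀, hb₀'⟩ := h.neB
  have hbr := h.br_of_two hi hj ha₀ ha₀' hb₀ hb₀'
  set z₀ := a₀ * b₀ * a₀⁻¹ * b₀⁻¹ with hz₀
  have hz₀C : z₀ ∈ C := h.br a₀ ha₀ b₀ hb₀
  have hWC : zpowers z₀ ≤ C := (zpowers_le).2 hz₀C
  have hZW : center X ≤ zpowers z₀ := fun z hz =>
    center_mem hX P (fun w hw x hx => h.comm_Z (hWC hw) hx) (fun x hx y hy => h.exists_comm_of hWC hbr hx hy) hz (hZP hz)
  have hW2 : Nat.card (zpowers z₀) ≤ 2 := by
    rw [Nat.card_zpowers]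
    exact Nat.le_of_dvd (by norm_num) (orderOf_dvd_of_pow_eq_one (by
      rw [pow_two]; exact h.A_sq z₀ (mem_inf.1 hz₀C).1))
  have hZ1 : Nat.card (center X) = 1 := by
    have h3 : Nat.card (center X) < Nat.card (zpowers z₀) := by
      refine lt_of_le_of_ne (Nat.le_of_dvd Nat.card_pos (card_dvd_of_le hZW)) ?_
      intro h4
      have h5 := eq_of_le_of_card_ge hZW h4.ge
      apply hxy
      rw [h5]
      exact h.comm_mem_of hWC hbr hx hy
    have h4 : 0 < Nat.card (center X) := Nat.card_pos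
    omega
  have h3 := Models.card_mul_relIndex hCP
  have h4 := Models.card_mul_relIndex hZP
  rw [hZ1, one_mul] at h4
  rw [hCA, hi, hj, ← h4] at h3
  have h5 : Nat.card C ≠ 1 := fun h6 => h.Z_ne_bot (card_eq_one.1 h6)
  have h6 : 0 < Nat.card C := Nat.card_pos
  omega

end Cfsg.Agent.H306.AB
end

-- part: H306/AB/Quasi2
section
/-!
# Quasisimple groups with Sylow 2-subgroup `P = AB`: main result (helper306)
-/

set_option autoImplicit false
open Cfsg

namespace Cfsg.Agent.H306.AB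

open Subgroup Cfsg.Agent.Lib.GoldschmidtFusion
open scoped commutatorElement

universe u

theorem commutator_eq_top_of_perfect {X : Type*} [Group X] (h : Group.IsPerfect X) : commutator X = ⊤ :=
  h.commutator_eq_top

/-- the quotient by the centre is not commutative -/
theorem quotient_not_comm {X : Type*} [Group X] (hX : IsQuasisimple X) : ¬ IsMulCommutative (X ⧸ center X) := by
  intro hc
  have h1 := commutator_eq_top_of_perfect hX.1
  have h2 : commutator X ≤ center X := by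
    rw [commutator_def, Subgroup.commutator_le]
    intro x _ y _
    rw [← QuotientGroup.eq_one_iff, commutatorElement_def]
    have h3 := hc.is_comm.comm (QuotientGroup.mk x : X ⧸ center X) (QuotientGroup.mk y)
    rw [QuotientGroup.mk_mul, QuotientGroup.mk_mul, QuotientGroup.mk_mul, h3, QuotientGroup.mk_inv,
      QuotientGroup.mk_inv]
    group
  rw [h1, top_le_iff] at h2
  have h3 := hX.2
  have h4 : Nontrivial (X ⧸ center X) := h3.toNontrivial
  obtain ⟨a, b, hab⟩ := h4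
  apply hab
  obtain ⟨x, rfl⟩ := QuotientGroup.mk_surjective a
  obtain ⟨y, rfl⟩ := QuotientGroup.mk_surjective b
  rw [QuotientGroup.eq, h2]
  trivial

/-- the commutators of `P` are not all central -/
theorem exists_not_central (hW : WalThm.{u}) {X : Type u} [Group X] [Finite X] (hX : IsQuasisimple X)
    (P : Sylow 2 X) {A B : Subgroup X} (h : IsAB (P : Subgroup X) A B) (hZP : center X ≤ P) :
    ∃ x ∈ (P : Subgroup X), ∃ y ∈ (P : Subgroup X), x * y * x⁻¹ * y⁻¹ ∉ center X := by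
  have h2 : Fact (Nat.Prime 2) := ⟨Nat.prime_two⟩
  by_contra hcon
  push Not at hcon
  have hZC : center X ≤ A ⊓ B := fun z hz =>
    h.mem_Z_of_comm (hZP hz) (fun t _ => mem_center_iff.1 hz t)
  set π : X →* X ⧸ center X := QuotientGroup.mk' (center X) with hπ
  have hπs : Function.Surjective π := QuotientGroup.mk'_surjective _
  have hπ1 : ∀ x, π x = 1 ↔ x ∈ center X := fun x => QuotientGroup.eq_one_iff x
  have hs := hX.2
  have hPc : ∀ a ∈ ((P.mapSurjective hπs : Sylow 2 (X ⧸ center X)) : Subgroup (X ⧸ center X)),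
      ∀ b ∈ ((P.mapSurjective hπs : Sylow 2 (X ⧸ center X)) : Subgroup (X ⧸ center X)), a * b = b * a := by
    rintro _ ⟨x, hx, rfl⟩ _ ⟨y, hy, rfl⟩
    have h3 := (hπ1 _).2 (hcon x hx y hy)
    rw [map_mul, map_mul, map_mul, map_inv, map_inv] at h3
    have h4 : π x * π y = (π x * π y * (π x)⁻¹ * (π y)⁻¹) * (π y * π x) := by group
    rw [h4, h3, one_mul]
  have hWt := hW (X ⧸ center X) hs (quotient_not_comm hX) _ hPc
  have hna : ∃ a b : X ⧸ center X, a * b ≠ b * a := by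
    by_contra hc
    push Not at hc
    exact quotient_not_comm hX ⟨⟨hc⟩⟩
  obtain ⟨a, ha, ha'⟩ := h.neA
  obtain ⟨b, hb, hb'⟩ := h.neB
  have ha1 : π a ≠ 1 := fun h1 => ha' (mem_inf.1 (hZC ((hπ1 a).1 h1))).2
  have hb1 : π b ≠ 1 := fun h1 => hb' (mem_inf.1 (hZC ((hπ1 b).1 h1))).1
  obtain ⟨n', hn', hnab⟩ := Walter.PairsRot.exists_normalizer_conj hWt hna (P.mapSurjective hπs)
    (π a) ⟨a, h.A_le ha, rfl⟩ ha1 (π b) ⟨b, h.B_le hb, rfl⟩ hb1
  obtain ⟨n, rfl⟩ := hπs n'
  have hnP : n ∈ normalizer ((P : Subgroup X) : Set X) := by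
    rw [mem_normalizer_iff_map_conj]
    have hle : (P : Subgroup X).map (MulAut.conj n).toMonoidHom ≤ P := by
      rintro _ ⟨x, hx, rfl⟩
      change n * x * n⁻¹ ∈ (P : Subgroup X)
      have h3 : π n * π x * (π n)⁻¹ ∈ (P.mapSurjective hπs : Subgroup (X ⧸ center X)) :=
        (mem_normalizer_iff.1 hn' (π x)).1 ⟨x, hx, rfl⟩
      obtain ⟨y, hy, hye⟩ := h3
      have h4 : π (y⁻¹ * (n * x * n⁻¹)) = 1 := by
        rw [map_mul, map_mul, map_mul, map_inv, map_inv, hye]
        group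
      have h5 := (P : Subgroup X).mul_mem hy (hZP ((hπ1 _).1 h4))
      rwa [mul_inv_cancel_left] at h5
    exact Subgroup.eq_of_le_of_card_ge hle (by rw [card_map_conj])
  have h3 : n * a * n⁻¹ ∈ A := (mem_normalizer_iff.1 (h.normalizer_le_A hnP) a).1 ha
  have h4 : π ((n * a * n⁻¹)⁻¹ * b) = 1 := by
    rw [map_mul, map_inv, map_mul, map_mul, map_inv, hnab, inv_mul_cancel]
  have h5 := A.mul_mem h3 (mem_inf.1 (hZC ((hπ1 _).1 h4))).1
  rw [mul_inv_cancel_left] at h5
  exact hb' h5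

/-- **Quasisimple groups with Sylow 2-subgroup `P = AB`.** -/
theorem quasi_main (hW : WalThm.{u}) (hC : Cl2Thm.{u}) {X : Type u} [Group X] [Finite X] (hX : IsQuasisimple X)
    (P : Sylow 2 X) {A B : Subgroup X} (h : IsAB (P : Subgroup X) A B) (hZP : center X ≤ P) :
    Nat.card (A ⊓ B : Subgroup X) = 2 ∨
      ∃ (F : Type) (_ : Field F) (_ : Fintype F), CharP F 2 ∧ 4 ≤ Fintype.card F ∧
        (Nonempty (X ⧸ center X ≃* Matrix.ProjectiveSpecialLinearGroup (Fin 3) F) ∨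
          Nonempty (X ⧸ center X ≃* Cfsg.PSp 2 F)) ∧
        A.relIndex P = Fintype.card F ∧ B.relIndex P = Fintype.card F := by
  have h2 : Fact (Nat.Prime 2) := ⟨Nat.prime_two⟩
  have hnc := exists_not_central hW hX P h hZP
  have hZC : center X ≤ A ⊓ B := fun z hz =>
    h.mem_Z_of_comm (hZP hz) (fun t _ => mem_center_iff.1 hz t)
  set π : X →* X ⧸ center X := QuotientGroup.mk' (center X) with hπ
  have hπs : Function.Surjective π := QuotientGroup.mk'_surjective _
  have hπ1 : ∀ x, π x = 1 ↔ x ∈ center X := fun x => QuotientGroup.eq_one_iff x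
  have hs := hX.2
  obtain ⟨x₀, hx₀, y₀, hy₀, hxy₀⟩ := hnc
  have hnc' : ¬ (∀ a ∈ ((P.mapSurjective hπs : Sylow 2 (X ⧸ center X)) : Subgroup (X ⧸ center X)),
      ∀ b ∈ ((P.mapSurjective hπs : Sylow 2 (X ⧸ center X)) : Subgroup (X ⧸ center X)), a * b = b * a) := by
    intro hc
    apply hxy₀
    rw [← hπ1, map_mul, map_mul, map_mul, map_inv, map_inv, hc _ ⟨x₀, hx₀, rfl⟩ _ ⟨y₀, hy₀, rfl⟩]
    group
  have hcl : ∀ a ∈ ((P.mapSurjective hπs : Sylow 2 (X ⧸ center X)) : Subgroup (X ⧸ center X)),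
      ∀ b ∈ ((P.mapSurjective hπs : Sylow 2 (X ⧸ center X)) : Subgroup (X ⧸ center X)),
      ∀ c ∈ ((P.mapSurjective hπs : Sylow 2 (X ⧸ center X)) : Subgroup (X ⧸ center X)),
      (a * b * a⁻¹ * b⁻¹) * c = c * (a * b * a⁻¹ * b⁻¹) := by
    rintro _ ⟨x, hx, rfl⟩ _ ⟨y, hy, rfl⟩ _ ⟨z, hz, rfl⟩
    change (π x * π y * (π x)⁻¹ * (π y)⁻¹) * π z = π z * (π x * π y * (π x)⁻¹ * (π y)⁻¹)
    rw [← map_inv, ← map_inv, ← map_mul, ← map_mul, ← map_mul, ← map_mul, ← map_mul,
      h.comm_Z (h.comm_mem hx hy) hz]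
  rcases hC (X ⧸ center X) (P.mapSurjective hπs) hnc' hcl with h16 | hinv | ⟨F, i1, i2, hF, h4, hiso⟩
  · left
    exact card_Z_of_small (commutator_eq_top_of_perfect hX.1) P h hZP ⟨x₀, hx₀, y₀, hy₀, hxy₀⟩ h16
  · exfalso
    apply hnc'
    rintro _ ⟨x, hx, rfl⟩ y hy
    obtain ⟨a, ha, b, hb, rfl⟩ := h.prod x hx
    have e1 := hinv (P.mapSurjective hπs) (π a) ⟨a, h.A_le ha, rfl⟩ (by rw [← map_mul, h.A_sq a ha, map_one]) y hy
    have e2 := hinv (P.mapSurjective hπs) (π b) ⟨b, h.B_le hb, rfl⟩ (by rw [← map_mul, h.B_sq b hb, map_one]) y hy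
    change π (a * b) * y = y * π (a * b)
    rw [map_mul]
    calc π a * π b * y = π a * (π b * y) := by group
      _ = (π a * y) * π b := by rw [e2]; group
      _ = y * (π a * π b) := by rw [e1]; group
  · right
    have hmodel : Models.HasModel ((P : Subgroup X).map π) (Fintype.card F) := by
      have key : ∀ {M : Type} [Group M] [Finite M] (_ : ∀ Q : Sylow 2 M, Models.HasModel (Q : Subgroup M) (Fintype.card F))
          (_ : X ⧸ center X ≃* M), Models.HasModel ((P : Subgroup X).map π) (Fintype.card F) := by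
        intro M _ _ hM e
        have h5 := (hM ((P.mapSurjective hπs).mapSurjective (f := e.toMonoidHom) e.surjective)).map e.symm
        have h6 : (((P.mapSurjective hπs).mapSurjective (f := e.toMonoidHom) e.surjective : Sylow 2 M) : Subgroup M).map
            e.symm.toMonoidHom = (P : Subgroup X).map π := by
          change (((P : Subgroup X).map π).map e.toMonoidHom).map e.symm.toMonoidHom = _
          rw [Subgroup.map_map]
          have h7 : e.symm.toMonoidHom.comp e.toMonoidHom = MonoidHom.id _ := by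
            ext x
            exact e.symm_apply_apply x
          rw [h7, Subgroup.map_id]
        rwa [h6] at h5
      rcases hiso with ⟨⟨e⟩⟩ | ⟨⟨e⟩⟩
      · exact key (fun Q => Models.psl3 Q) e
      · have : Finite (Matrix.symplecticGroup (Fin 2) F) := inferInstance
        have : Finite (Cfsg.PSp 2 F) := inferInstance
        exact key (fun Q => Models.psp h4 Q) e
    have hidx := hmodel.index (A := A.map π) (B := B.map π) (Subgroup.map_mono h.A_le) (Subgroup.map_mono h.B_le)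
      (by
        rintro _ ⟨x, hx, rfl⟩
        rw [← map_mul, h.A_sq x hx, map_one]) (by
        rintro _ ⟨x, hx, rfl⟩
        rw [← map_mul, h.B_sq x hx, map_one]) (by
        rintro _ ⟨s, hs, rfl⟩
        obtain ⟨a, ha, b, hb, rfl⟩ := h.prod s hs
        exact ⟨_, ⟨a, ha, rfl⟩, _, ⟨b, hb, rfl⟩, (map_mul _ _ _).symm⟩) (by
        rw [← map_commutator]
        exact (Subgroup.map_mono h.commutator_le).trans (Subgroup.map_inf_le A B π))
    have hker : π.ker = center X := QuotientGroup.ker_mk' _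
    have hrel : ∀ {D : Subgroup X}, center X ≤ D → (D.map π).relIndex ((P : Subgroup X).map π) = D.relIndex P := by
      intro D hD
      rw [relIndex_map_map, hker, sup_eq_left.2 hD, sup_eq_left.2 hZP]
    rw [hrel (hZC.trans inf_le_left), hrel (hZC.trans inf_le_right)] at hidx
    exact ⟨F, i1, i2, hF, h4, hiso, hidx⟩

end Cfsg.Agent.H306.AB
end
end

-- part: H306/AB/Final_mg
section
prune_inst 0x4200000000012000000000000003c46ca000102002b000109200b0206800f2200002f20aca012100802820400340068100000300010000020000400411901a080aa52023340a104240009809004000000000000000000000000000000000000000000000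
set_option linter.all false
open scoped Cfsg.Agent.FastGrp

-- part: H306/AB/Local
section
/-!
# `O_2(G)` and the layer of a group with Sylow 2-subgroup `S = AB` (helper306)
-/

set_option autoImplicit false
open Cfsg

namespace Cfsg.Agent.H306.AB

open Subgroup Cfsg.Agent.Lib.GoldschmidtFusion
open Cfsg.Agent.SignalizersComponents
open Cfsg.Agent.SignalizersComponents.Components
open Cfsg.Agent.Walter
open scoped commutatorElement

variable {G : Type*} [Group G] [Finite G] {A B : Subgroup G} {S : Sylow 2 G}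

/-- no normal subgroup `N ≥ A` with `S ∩ N = A` -/
def NoN (S A : Subgroup G) : Prop := ∀ N : Subgroup G, N.Normal → A ≤ N → ¬ S ⊓ N ≤ A

theorem pCore_inf_le (h : IsAB (S : Subgroup G) A B) (hNA : NoN (S : Subgroup G) A) : pCore 2 G ⊓ A ≤ B := by
  by_contra hcon
  obtain ⟨a₀, ha₀, ha₀B⟩ := SetLike.not_le_iff_exists.1 hcon
  have hQn : (pCore 2 G).Normal := Lib.Cores.pCore_normal 2
  set Q := pCore 2 G with hQ
  have hQS : Q ≤ S := Lib.Cores.pCore_le_sylow S
  -- the conjugates of `Q ∩ A`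
  have hcj : ∀ {A B : Subgroup G}, IsAB (S : Subgroup G) A B → ∀ g : G,
      (Q ⊓ A).map (MulAut.conj g).toMonoidHom ≤ A ∨ (Q ⊓ A).map (MulAut.conj g).toMonoidHom ≤ B := by
    intro A B h g
    refine h.le_or_le ?_ ?_
    · rintro _ ⟨x, hx, rfl⟩
      exact hQS (hQn.conj_mem x hx.1 g)
    · rintro _ ⟨x, hx, rfl⟩
      rw [← map_mul, h.A_sq x hx.2, map_one]
  have hcQ : ∀ (D : Subgroup G) (g : G), (Q ⊓ D).map (MulAut.conj g).toMonoidHom ≤ Q := by
    rintro D g _ ⟨x, hx, rfl⟩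
    exact hQn.conj_mem x hx.1 g
  have key : ∀ g : G, (Q ⊓ A).map (MulAut.conj g).toMonoidHom = Q ⊓ A ∨
      (Q ⊓ A).map (MulAut.conj g).toMonoidHom = Q ⊓ B := by
    intro g
    rcases hcj h g with h1 | h1
    · left
      exact eq_of_le_of_card_ge (le_inf (hcQ A g) h1) (by rw [card_map_conj])
    · right
      have h2 : (Q ⊓ A).map (MulAut.conj g).toMonoidHom ≤ Q ⊓ B := le_inf (hcQ A g) h1
      have h3 : Q ⊓ A ≤ (Q ⊓ B).map (MulAut.conj g⁻¹).toMonoidHom := by
        have := map_conj_mono h2 g⁻¹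
        rwa [map_conj_map_conj, inv_mul_cancel, map_conj_one] at this
      rcases hcj h.symm g⁻¹ with h4 | h4
      · exact absurd (h4 (h3 ha₀)) ha₀B
      · have h5 : (Q ⊓ B).map (MulAut.conj g⁻¹).toMonoidHom = Q ⊓ A :=
          le_antisymm (le_inf (hcQ B g⁻¹) h4) h3
        rw [← h5, map_conj_map_conj, mul_inv_cancel, map_conj_one]
  have hS : (S : Subgroup G) ≤ normalizer ((Q ⊓ A : Subgroup G) : Set G) := by
    intro s hs
    rw [mem_normalizer_iff_map_conj]
    have h1 := mem_normalizer_iff_map_conj.1 (h.S_le_normalizer_A hs)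
    refine eq_of_le_of_card_ge (le_inf (hcQ A s) ?_) (by rw [card_map_conj])
    refine (map_conj_mono inf_le_right s).trans h1.le
  have htop : normalizer ((Q ⊓ A : Subgroup G) : Set G) = ⊤ := by
    by_contra hne
    obtain ⟨g, -, hg⟩ := SetLike.exists_of_lt (lt_top_iff_ne_top.2 hne)
    have hgB : (Q ⊓ A).map (MulAut.conj g).toMonoidHom = Q ⊓ B :=
      (key g).resolve_left fun h1 => hg (mem_normalizer_iff_map_conj.2 h1)
    have hidx : (normalizer ((Q ⊓ A : Subgroup G) : Set G)).index = 2 := by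
      rw [index_eq_two_iff']
      refine ⟨g⁻¹, fun x => ?_⟩
      have e1 : g⁻¹ * x ∈ normalizer ((Q ⊓ A : Subgroup G) : Set G) ↔
          (Q ⊓ A).map (MulAut.conj x).toMonoidHom = Q ⊓ B := by
        rw [mem_normalizer_iff_map_conj, ← map_conj_map_conj]
        constructor
        · intro h1
          have h2 := congrArg (fun D : Subgroup G => D.map (MulAut.conj g).toMonoidHom) h1
          simp only [map_conj_map_conj, mul_inv_cancel_left] at h2
          rw [h2, hgB]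
        · intro h1
          rw [h1, ← hgB, map_conj_map_conj, inv_mul_cancel, map_conj_one]
      rw [e1, mem_normalizer_iff_map_conj]
      rcases key x with h1 | h1
      · right
        refine ⟨h1, fun h2 => ?_⟩
        rw [h1] at h2
        rw [h2] at ha₀
        exact ha₀B ha₀.2
      · left
        refine ⟨h1, fun h2 => ?_⟩
        rw [h2] at h1
        rw [h1] at ha₀
        exact ha₀B ha₀.2
    exact S.not_dvd_index ((dvd_of_eq hidx.symm).trans (index_dvd_of_le hS))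
  have hn : (Q ⊓ A).Normal := normalizer_eq_top_iff.1 htop
  refine hNA (centralizer ((Q ⊓ A : Subgroup G) : Set G)) inferInstance ?_ ?_
  · intro a ha
    rw [mem_centralizer_iff]
    intro x hx
    exact h.A_comm x hx.2 a ha
  · rintro s ⟨hs, hsc⟩
    exact h.centA a₀ ha₀.2 ha₀B s hs (mem_centralizer_iff.1 hsc a₀ ha₀)

/-- the subgroup `V₀ = O₂(G) ∩ A ∩ B` -/
theorem mem_inf_of_sq (h : IsAB (S : Subgroup G) A B) (hA : pCore 2 G ⊓ A ≤ B) (hB : pCore 2 G ⊓ B ≤ A) {x : G}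
    (hx : x ∈ pCore 2 G) (hxx : x * x = 1) : x ∈ A ⊓ B := by
  rcases h.inv x (Lib.Cores.pCore_le_sylow S hx) hxx with h1 | h1
  · exact ⟨h1, hA ⟨hx, h1⟩⟩
  · exact ⟨hB ⟨hx, h1⟩, h1⟩

theorem V0_normal (h : IsAB (S : Subgroup G) A B) (hA : pCore 2 G ⊓ A ≤ B) (hB : pCore 2 G ⊓ B ≤ A) :
    (pCore 2 G ⊓ (A ⊓ B)).Normal := by
  have hQn : (pCore 2 G).Normal := Lib.Cores.pCore_normal 2
  refine ⟨fun x hx g => ?_⟩
  have h1 := hQn.conj_mem x hx.1 g
  refine ⟨h1, mem_inf_of_sq h hA hB h1 ?_⟩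
  have h2 := h.A_sq x hx.2.1
  calc g * x * g⁻¹ * (g * x * g⁻¹) = g * (x * x) * g⁻¹ := by group
    _ = 1 := by rw [h2]; group

/-- `S ∩ C(E(G)) ≤ O₂(G)` -/
theorem inf_centralizer_layer_le (hO : pPrimeCore 2 G = ⊥) (h : IsAB (S : Subgroup G) A B)
    (hA : pCore 2 G ⊓ A ≤ B) (hB : pCore 2 G ⊓ B ≤ A) :
    (S : Subgroup G) ⊓ centralizer (layer G : Set G) ≤ pCore 2 G := by
  have hp2 : Fact (Nat.Prime 2) := ⟨Nat.prime_two⟩
  have hQn : (pCore 2 G).Normal := Lib.Cores.pCore_normal 2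
  have hVn := V0_normal h hA hB
  have hLn : (layer G).Normal := LayerBasic.layer_normal G
  set Q := pCore 2 G with hQ
  set V := Q ⊓ (A ⊓ B) with hV
  have hQS : Q ≤ S := Lib.Cores.pCore_le_sylow S
  set R := IsAB.chainStab V Q with hR
  -- `R` is normal
  have hRn : R.Normal := by
    refine ⟨fun r hr g => ?_⟩
    obtain ⟨hr1, hr2, hr3⟩ := hr
    refine ⟨?_, fun z hz => ?_, fun x hx => ?_⟩
    · rw [normalizer_eq_top_iff.2 hQn]; trivial
    · have hz' : g⁻¹ * z * g ∈ V := by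
        have := hVn.conj_mem z hz g⁻¹
        rwa [inv_inv] at this
      have := hr2 _ hz'
      calc g * r * g⁻¹ * z = g * (r * (g⁻¹ * z * g)) * g⁻¹ := by group
        _ = z * (g * r * g⁻¹) := by rw [this]; group
    · have hx' : g⁻¹ * x * g ∈ Q := by
        have := hQn.conj_mem x hx g⁻¹
        rwa [inv_inv] at this
      have h2 := hVn.conj_mem _ (hr3 _ hx') g
      convert h2 using 1
      group
  have hsq : ∀ r ∈ R, r * r ∈ centralizer (Q : Set G) := by
    intro r hr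
    rw [mem_centralizer_iff]
    intro x hx
    obtain ⟨hr1, hr2, hr3⟩ := hr
    set z := r * x * r⁻¹ * x⁻¹ with hz
    have hzZ : z ∈ V := hr3 x hx
    have e1 : r * x * r⁻¹ = z * x := by rw [hz]; group
    have hzz : z * z = 1 := h.A_sq z hzZ.2.1
    have e2 : r * r * x * (r * r)⁻¹ = x := by
      calc r * r * x * (r * r)⁻¹ = r * (r * x * r⁻¹) * r⁻¹ := by group
        _ = (r * z) * x * r⁻¹ := by rw [e1]; group
        _ = z * (r * x * r⁻¹) := by rw [hr2 z hzZ]; group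
        _ = z * z * x := by rw [e1]; group
        _ = x := by rw [hzz, one_mul]
    calc x * (r * r) = (r * r * x * (r * r)⁻¹) * (r * r) := by rw [e2]
      _ = r * r * x := by group
  have hDn : (R ⊓ centralizer (layer G : Set G)).Normal := inferInstance
  have hD2 : IsPGroup 2 (R ⊓ centralizer (layer G : Set G) : Subgroup G) := by
    rintro ⟨d, hdR, hdL⟩
    have h1 : d * d ∈ centralizer (generalizedFittingSubgroup G : Set G) := by
      rw [AbStruct.genFitting_eq hO]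
      have h2 : (pCore 2 G ⊔ layer G) ≤ centralizer ({d * d} : Set G) := by
        refine sup_le ?_ ?_
        · intro x hx
          rw [mem_centralizer_singleton_iff]
          exact mem_centralizer_iff.1 (hsq d hdR) x hx
        · intro x hx
          rw [mem_centralizer_singleton_iff]
          exact mem_centralizer_iff.1 (Subgroup.mul_mem _ hdL hdL) x hx
      rw [mem_centralizer_iff]
      intro x hx
      exact mem_centralizer_singleton_iff.1 (h2 hx)
    have h3 := TwoFusion.FStarControl.centralizer_genFitting_le_fitting h1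
    rw [BalanceAux.fitting_eq_pCore 2 hO] at h3
    obtain ⟨k, hk⟩ := Lib.Cores.pCore_isPGroup (G := G) 2 ⟨d * d, h3⟩
    have hk' : (d * d) ^ 2 ^ k = 1 := congrArg Subtype.val hk
    refine ⟨k + 1, ?_⟩
    apply Subtype.ext
    change d ^ 2 ^ (k + 1) = 1
    rw [pow_succ, mul_comm, pow_mul, pow_two, hk']
  have hDQ := Lib.Cores.le_pCore hDn hD2
  rintro s ⟨hs, hsL⟩
  refine hDQ ⟨⟨?_, fun z hz => ?_, fun x hx => ?_⟩, hsL⟩
  · rw [normalizer_eq_top_iff.2 hQn]; trivial
  · exact (h.comm_Z hz.2 hs).symm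
  · refine ⟨?_, h.comm_mem hs (hQS hx)⟩
    exact Q.mul_mem (hQn.conj_mem x hx s) (Q.inv_mem hx)

end Cfsg.Agent.H306.AB
end

-- part: H306/AB/Comp
section
/-!
# Components of a group with Sylow 2-subgroup `S = AB` (helper306)
-/

set_option autoImplicit false
open Cfsg

namespace Cfsg.Agent.H306.AB

open Subgroup Cfsg.Agent.Lib.GoldschmidtFusion
open Cfsg.Agent.SignalizersComponents
open Cfsg.Agent.SignalizersComponents.Components
open Cfsg.Agent.Walter
open scoped commutatorElement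

/-- `x = k c` with `k ∈ K`, `c ∈ C(K)`: both factors lie in `S` -/
theorem split_of_mul {G : Type*} [Group G] [Finite G] {S : Sylow 2 G} {K : Subgroup G}
    (hZ : K ⊓ centralizer (K : Set G) ≤ S) (hP : ∃ P : Sylow 2 K, (P : Subgroup K) = (S : Subgroup G).subgroupOf K)
    {x k c : G} (hx : x ∈ (S : Subgroup G)) (hk : k ∈ K) (hc : c ∈ centralizer (K : Set G)) (e : x = k * c) :
    k ∈ (S : Subgroup G) ∧ c ∈ (S : Subgroup G) := by
  obtain ⟨P, hP⟩ := hP
  have hkc : k * c = c * k := mem_centralizer_iff.1 hc k hk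
  have hkS : k ∈ (S : Subgroup G) := by
    -- `k` is a 2-element
    obtain ⟨n, hn⟩ := S.isPGroup' ⟨x, hx⟩
    have hn' : x ^ 2 ^ n = 1 := congrArg Subtype.val hn
    have h1 : k ^ 2 ^ n * c ^ 2 ^ n = 1 := by
      rw [← (show Commute k c from hkc).mul_pow, ← e, hn']
    have h2 : k ^ 2 ^ n ∈ K ⊓ centralizer (K : Set G) := by
      refine ⟨K.pow_mem hk _, ?_⟩
      rw [eq_inv_of_mul_eq_one_left h1]
      exact Subgroup.inv_mem _ (Subgroup.pow_mem _ hc _)
    obtain ⟨m, hm⟩ := S.isPGroup' ⟨_, hZ h2⟩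
    have hm' : (k ^ 2 ^ n) ^ 2 ^ m = 1 := congrArg Subtype.val hm
    have h3 : IsPGroup 2 (zpowers (⟨k, hk⟩ : K)) := by
      rw [← pow_mul, ← pow_add] at hm'
      refine IsPGroup.of_card (n := Nat.log 2 (Nat.card (zpowers (⟨k, hk⟩ : K)))) ?_
      have h4 : Nat.card (zpowers (⟨k, hk⟩ : K)) ∣ 2 ^ (n + m) := by
        rw [Nat.card_zpowers]
        exact orderOf_dvd_of_pow_eq_one (Subtype.ext hm')
      obtain ⟨r, -, hr⟩ := (Nat.dvd_prime_pow Nat.prime_two).1 h4
      rw [hr, Nat.log_pow (by norm_num)]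
    have hcen : ∀ y ∈ K, k * y * k⁻¹ = x * y * x⁻¹ := by
      intro y hy
      have h5 : y * c = c * y := mem_centralizer_iff.1 hc y hy
      rw [e]
      calc k * y * k⁻¹ = k * (y * c) * c⁻¹ * k⁻¹ := by group
        _ = k * c * y * (k * c)⁻¹ := by rw [h5]; group
    have hcen' : ∀ y ∈ K, k⁻¹ * y * k = x⁻¹ * y * x := by
      intro y hy
      have h5 : y * (c⁻¹) = c⁻¹ * y := mem_centralizer_iff.1 (Subgroup.inv_mem _ hc) y hy
      have h6 : (k⁻¹ * y * k) * c = c * (k⁻¹ * y * k) :=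
        mem_centralizer_iff.1 hc _ (K.mul_mem (K.mul_mem (K.inv_mem hk) hy) hk)
      rw [e]
      calc k⁻¹ * y * k = c⁻¹ * (c * (k⁻¹ * y * k)) := by group
        _ = c⁻¹ * ((k⁻¹ * y * k) * c) := by rw [h6]
        _ = (k * c)⁻¹ * y * (k * c) := by group
    have h4 : (⟨k, hk⟩ : K) ∈ normalizer ((P : Subgroup K) : Set K) := by
      rw [mem_normalizer_iff]
      intro y
      rw [hP, mem_subgroupOf, mem_subgroupOf]
      change (y : G) ∈ (S : Subgroup G) ↔ k * y * k⁻¹ ∈ (S : Subgroup G)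
      constructor
      · intro hy
        rw [hcen y y.2]
        exact mul_mem (mul_mem hx hy) (inv_mem hx)
      · intro hy
        have h7 := hcen' (k * y * k⁻¹) (K.mul_mem (K.mul_mem hk y.2) (K.inv_mem hk))
        have h8 : k⁻¹ * (k * (y : G) * k⁻¹) * k = y := by group
        rw [h8] at h7
        rw [h7]
        exact mul_mem (mul_mem (inv_mem hx) hy) hx
    have h5 := h3.inf_normalizer_sylow P
    have h6 : (⟨k, hk⟩ : K) ∈ zpowers (⟨k, hk⟩ : K) ⊓ (P : Subgroup K) := by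
      rw [← h5]
      exact ⟨mem_zpowers _, h4⟩
    have h7 := h6.2
    rw [hP] at h7
    exact mem_subgroupOf.1 h7
  refine ⟨hkS, ?_⟩
  have h8 : c = k⁻¹ * x := by rw [e]; group
  rw [h8]
  exact mul_mem (inv_mem hkS) hx

/-- elements of the subgroup generated by `K` and `C(K)` -/
theorem exists_of_mem_sup {G : Type*} [Group G] {K : Subgroup G} {x : G} (hx : x ∈ K ⊔ centralizer (K : Set G)) :
    ∃ k ∈ K, ∃ c ∈ centralizer (K : Set G), x = k * c := by
  have hcomm : ∀ a ∈ K, ∀ b ∈ centralizer (K : Set G), a * b = b * a := fun a ha b hb =>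
    mem_centralizer_iff.1 hb a ha
  let H : Subgroup G :=
    { carrier := {x | ∃ k ∈ K, ∃ c ∈ centralizer (K : Set G), x = k * c}
      one_mem' := ⟨1, one_mem _, 1, one_mem _, (one_mul 1).symm⟩
      mul_mem' := by
        rintro _ _ ⟨k, hk, c, hc, rfl⟩ ⟨l, hl, d, hd, rfl⟩
        refine ⟨k * l, mul_mem hk hl, c * d, Subgroup.mul_mem _ hc hd, ?_⟩
        calc k * c * (l * d) = k * (c * l) * d := by group
          _ = k * l * (c * d) := by rw [← hcomm l hl c hc]; group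
      inv_mem' := by
        rintro _ ⟨k, hk, c, hc, rfl⟩
        refine ⟨k⁻¹, inv_mem hk, c⁻¹, Subgroup.inv_mem _ hc, ?_⟩
        rw [hcomm k hk c hc, mul_inv_rev] }
  have h1 : K ⊔ centralizer (K : Set G) ≤ H := by
    refine sup_le ?_ ?_
    · intro k hk
      exact ⟨k, hk, 1, one_mem _, (mul_one k).symm⟩
    · intro c hc
      exact ⟨1, one_mem _, c, hc, (one_mul c).symm⟩
  exact h1 hx

section comp

variable {G : Type*} [Group G] [Finite G] {A B : Subgroup G} {S : Sylow 2 G} {K : Subgroup G}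

theorem center_le_sylow (hO : pPrimeCore 2 G = ⊥) (S : Sylow 2 G) (hK : IsComponent K) :
    K ⊓ centralizer (K : Set G) ≤ S :=
  (BalanceAux.center_component_le_pCore 2 hO hK).trans (Lib.Cores.pCore_le_sylow S)

/-- a component with nonabelian Sylow 2-subgroups is normalised by `S` -/
theorem le_normalizer_of_not_comm (h : IsAB (S : Subgroup G) A B) (hK : IsComponent K)
    (hnc : ¬ ∀ x ∈ (S : Subgroup G) ⊓ K, ∀ y ∈ (S : Subgroup G) ⊓ K, x * y = y * x) :
    (S : Subgroup G) ≤ normalizer (K : Set G) := by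
  intro s hs
  by_contra hn
  have hL : IsComponent (K.map (MulAut.conj s).toMonoidHom) := isComponent_conj s hK
  have hne : K.map (MulAut.conj s).toMonoidHom ≠ K := fun h1 =>
    hn (BalanceAux.mem_normalizer_of_map_conj_eq h1)
  have h1 := component_le_centralizer_of_ne hL hK hne
  apply hnc
  intro x hx y hy
  have h2 : s * x * s⁻¹ ∈ centralizer (K : Set G) := h1 ⟨x, hx.2, rfl⟩
  have h3 := mem_centralizer_iff.1 h2 y hy.2
  have hz := h.comm_mem hs hx.1
  set z := s * x * s⁻¹ * x⁻¹ with hzdef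
  have e1 : s * x * s⁻¹ = z * x := by rw [hzdef]; group
  rw [e1] at h3
  have h4 := h.comm_Z hz hy.1
  have h5 : z * (x * y) = z * (y * x) := by
    calc z * (x * y) = z * x * y := by group
      _ = y * (z * x) := h3.symm
      _ = (y * z) * x := by group
      _ = z * (y * x) := by rw [← h4]; group
  exact mul_left_cancel h5

/-- components with abelian Sylow 2-subgroups have trivial centre -/
theorem inf_centralizer_eq_bot (hO : pPrimeCore 2 G = ⊥) (hK : IsComponent K)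
    (hc : ∀ x ∈ (S : Subgroup G) ⊓ K, ∀ y ∈ (S : Subgroup G) ⊓ K, x * y = y * x) :
    K ⊓ centralizer (K : Set G) = ⊥ := by
  rw [eq_bot_iff]
  intro z hz
  obtain ⟨hzK, hzc⟩ := AbStruct.mem_inf_centralizer_iff.1 hz
  obtain ⟨P, hP⟩ := AbStruct.exists_sylow S hK
  have hmem : ∀ x : K, x ∈ (P : Subgroup K) → (x : G) ∈ (S : Subgroup G) ⊓ K := fun x hx => by
    rw [hP] at hx
    exact ⟨mem_subgroupOf.1 hx, x.2⟩
  have h1 := center_mem (X := K) (W := ⊥) hK.2.1.commutator_eq_top P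
    (fun w hw x _ => by rw [mem_bot.1 hw]; simp) (fun x hx y hy => ⟨1, one_mem _, by
      rw [mul_one]
      exact Subtype.ext (hc x (hmem x hx) y (hmem y hy))⟩) hzc (by
      rw [hP]
      exact mem_subgroupOf.2 (center_le_sylow hO S hK hz))
  rw [mem_bot]
  exact congrArg Subtype.val (mem_bot.1 h1)

theorem isSimpleGroup_of_comm (hO : pPrimeCore 2 G = ⊥) (hK : IsComponent K)
    (hc : ∀ x ∈ (S : Subgroup G) ⊓ K, ∀ y ∈ (S : Subgroup G) ⊓ K, x * y = y * x) : IsSimpleGroup K := by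
  have hn := quasisimple_nontrivial hK.2
  have hz : center K = ⊥ := by
    rw [eq_bot_iff]
    intro x hx
    have h1 : (x : G) ∈ K ⊓ centralizer (K : Set G) := AbStruct.mem_inf_centralizer_iff.2 ⟨x.2, hx⟩
    rw [inf_centralizer_eq_bot hO hK hc] at h1
    exact Subtype.ext h1
  refine ⟨fun N hN => ?_⟩
  rcases quasisimple_normal hK.2 N hN with h | h
  · exact Or.inr h
  · rw [hz] at h
    exact Or.inl (le_bot_iff.mp h)

end comp

universe u

section comp

variable {G : Type u} [Group G] [Finite G] {A B : Subgroup G} {S : Sylow 2 G} {K : Subgroup G}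

theorem sq_of_comm (hW : WalThm.{u}) (hO : pPrimeCore 2 G = ⊥) (hK : IsComponent K)
    (hc : ∀ x ∈ (S : Subgroup G) ⊓ K, ∀ y ∈ (S : Subgroup G) ⊓ K, x * y = y * x) :
    ∀ x ∈ (S : Subgroup G) ⊓ K, x * x = 1 := by
  obtain ⟨P, hP⟩ := AbStruct.exists_sylow S hK
  have hmem : ∀ x : K, x ∈ (P : Subgroup K) → (x : G) ∈ (S : Subgroup G) ⊓ K := fun x hx => by
    rw [hP] at hx
    exact ⟨mem_subgroupOf.1 hx, x.2⟩
  have h1 := hW K (isSimpleGroup_of_comm hO hK hc) (AbStruct.not_comm hK) P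
    (fun a ha b hb => Subtype.ext (hc a (hmem a ha) b (hmem b hb)))
  intro x hx
  have h2 := PSLFacts.WType.sq h1 P ⟨x, hx.2⟩ (by rw [hP]; exact mem_subgroupOf.2 hx.1)
  exact congrArg Subtype.val h2

end comp

end Cfsg.Agent.H306.AB
end

-- part: H306/AB/Comp2
section
/-!
# Not all components have abelian Sylow 2-subgroups (helper306)
-/

set_option autoImplicit false
open Cfsg

namespace Cfsg.Agent.H306.AB

open Subgroup Cfsg.Agent.Lib.GoldschmidtFusion
open Cfsg.Agent.SignalizersComponents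
open Cfsg.Agent.SignalizersComponents.Components
open Cfsg.Agent.Walter
open scoped commutatorElement

/-- an abelian 2-group `A` acting on the simple group `K` and containing a Sylow 2-subgroup of `K` acts by inner
automorphisms -/
theorem exists_inner_of {G : Type*} [Group G] [Finite G] {K A : Subgroup G} (hKs : IsSimpleGroup K)
    (hKC : K ⊓ centralizer (K : Set G) = ⊥) (hn : A ≤ normalizer (K : Set G)) (hA : IsPGroup 2 A)
    (hAc : ∀ a ∈ A, ∀ b ∈ A, a * b = b * a) (hodd : ¬ 2 ∣ A.relIndex K) (h2 : 2 ∣ Nat.card K) {a : G} (ha : a ∈ A) :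
    ∃ k ∈ A ⊓ K, ∃ c ∈ A ⊓ centralizer (K : Set G), a = k * c := by
  have hp2 : Fact (Nat.Prime 2) := ⟨Nat.prime_two⟩
  set Y : Subgroup G := K ⊔ A with hY
  have hKY : K ≤ Y := le_sup_left
  have hAY : A ≤ Y := le_sup_right
  have hKn : (K.subgroupOf Y).Normal := by
    rw [normal_subgroupOf_iff_le_normalizer hKY]
    exact sup_le Subgroup.le_normalizer hn
  have hKA : K.subgroupOf Y ⊔ A.subgroupOf Y = ⊤ := by
    rw [← subgroupOf_sup hKY hAY, ← hY, subgroupOf_self]
  have hindex : ¬ 2 ∣ (A.subgroupOf Y).index := by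
    -- `|Y| |K ∩ A| = |K| |A|`
    have h3 : (K.subgroupOf Y).relIndex (K.subgroupOf Y ⊔ A.subgroupOf Y) =
        (K.subgroupOf Y).relIndex (A.subgroupOf Y) := relIndex_sup_left _ _
    rw [hKA, relIndex_top_right, relIndex_subgroupOf hAY] at h3
    have h4 : Nat.card K * K.relIndex A = Nat.card Y := by
      have := (K.subgroupOf Y).card_mul_index
      rwa [h3, Nat.card_congr (subgroupOfEquivOfLe hKY).toEquiv] at this
    have h5 : Nat.card A * (A.subgroupOf Y).index = Nat.card Y := by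
      have := (A.subgroupOf Y).card_mul_index
      rwa [Nat.card_congr (subgroupOfEquivOfLe hAY).toEquiv] at this
    have h6 : Nat.card (K ⊓ A : Subgroup G) * K.relIndex A = Nat.card A := Models.card_inf_mul_relIndex
    have h7 : Nat.card (A ⊓ K : Subgroup G) * A.relIndex K = Nat.card K := Models.card_inf_mul_relIndex
    have h8 : (A.subgroupOf Y).index = A.relIndex K := by
      have h9 : Nat.card A * (A.subgroupOf Y).index = Nat.card A * A.relIndex K := by
        rw [h5, ← h4, ← h7, ← h6, inf_comm]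
        ring
      exact Nat.eq_of_mul_eq_mul_left Nat.card_pos h9
    rw [h8]; exact hodd
  have hAp : IsPGroup 2 (A.subgroupOf Y) := hA.comap_subtype
  let T : Sylow 2 Y := hAp.toSylow hindex
  have hT : (T : Subgroup Y) = A.subgroupOf Y := rfl
  have e : K.subgroupOf Y ≃* K := subgroupOfEquivOfLe hKY
  have hsimple : IsSimpleGroup (K.subgroupOf Y) := (MulEquiv.isSimpleGroup_congr e).2 hKs
  have hcen : ∀ y : Y, y ∈ centralizer ((K.subgroupOf Y : Subgroup Y) : Set Y) ↔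
      (y : G) ∈ centralizer (K : Set G) := by
    intro y
    rw [mem_centralizer_iff, mem_centralizer_iff]
    constructor
    · intro h k hk
      exact congrArg Subtype.val (h ⟨k, hKY hk⟩ (mem_subgroupOf.2 hk))
    · intro h k hk
      exact Subtype.ext (h k (mem_subgroupOf.1 hk))
  have hKC' : K.subgroupOf Y ⊓ centralizer ((K.subgroupOf Y : Subgroup Y) : Set Y) = ⊥ := by
    rw [eq_bot_iff]
    rintro x ⟨hx1, hx2⟩
    have h1 : (x : G) ∈ K ⊓ centralizer (K : Set G) := ⟨mem_subgroupOf.1 hx1, (hcen x).1 hx2⟩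
    rw [hKC] at h1
    exact Subtype.ext h1
  have hS' : ∀ a ∈ (T : Subgroup Y), ∀ b ∈ (T : Subgroup Y), a * b = b * a := by
    intro a ha b hb
    rw [hT] at ha hb
    exact Subtype.ext (hAc a (mem_subgroupOf.1 ha) b (mem_subgroupOf.1 hb))
  have h2' : 2 ∣ Nat.card (K.subgroupOf Y) := by
    rw [Nat.card_congr e.toEquiv]
    exact h2
  have h3 := AbInner.le_sup_centralizer (K.subgroupOf Y) hsimple hKC' T hS' (by rw [hT]; exact hKA) h2'
  obtain ⟨k, hk, c, hc, hkc⟩ := AbInner.exists_mul_of_le (K.subgroupOf Y) hKC' T hS'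
    (by
      intro s hs
      have h4 := h3 hs
      obtain ⟨a, ha, b, hb, hab⟩ := (mem_sup_of_normal_left (hs := hKn)).1 h4
      exact ⟨a, ha, b, hb, hab.symm⟩) (s := ⟨a, hAY ha⟩) (by
      rw [hT]
      exact mem_subgroupOf.2 ha)
  rw [hT] at hk hc
  exact ⟨k, ⟨mem_subgroupOf.1 hk.1, mem_subgroupOf.1 hk.2⟩, c,
    ⟨mem_subgroupOf.1 hc.1, (hcen c).1 hc.2⟩, congrArg Subtype.val hkc⟩

/-- decomposition along a finite set of components -/
theorem exists_inner_finset {G : Type*} [Group G] {R : Subgroup G}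
    (hR : ∀ K : Subgroup G, IsComponent K → ∀ x ∈ R, ∃ k ∈ R ⊓ K, ∃ c ∈ R ⊓ centralizer (K : Set G), x = k * c)
    (T : Finset {K : Subgroup G // IsComponent K}) {s : G} (hs : s ∈ R) :
    ∃ e ∈ ⨆ K ∈ T, (R ⊓ K.1), ∃ c ∈ R,
      (∀ K ∈ T, c ∈ centralizer (K.1 : Set G)) ∧ s = e * c := by
  classical
  induction T using Finset.induction_on generalizing s with
  | empty => exact ⟨1, one_mem _, s, hs, by simp, by simp⟩
  | insert K T hKT ih =>
    obtain ⟨e, he, c, hc, hcc, rfl⟩ := ih hs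
    obtain ⟨k, hk, c', hc', hkc⟩ := hR K.1 K.2 c hc
    refine ⟨e * k, ?_, c', hc'.1, ?_, ?_⟩
    · refine mul_mem ?_ ?_
      · have : ⨆ L ∈ T, (R ⊓ L.1) ≤ ⨆ L ∈ insert K T, (R ⊓ L.1) :=
          biSup_mono fun L hL => Finset.mem_insert_of_mem hL
        exact this he
      · have : R ⊓ K.1 ≤ ⨆ L ∈ insert K T, (R ⊓ L.1) :=
          le_biSup (fun L : {K : Subgroup G // IsComponent K} => R ⊓ L.1)
            (Finset.mem_insert_self K T)
        exact this hk
    · intro L hL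
      rcases Finset.mem_insert.1 hL with rfl | hL
      · exact hc'.2
      · have hne : K.1 ≠ L.1 := by
          intro h
          exact hKT ((Subtype.ext h : K = L) ▸ hL)
        have h1 := component_le_centralizer_of_ne K.2 L.2 hne
        have h2 : c' = k⁻¹ * c := by rw [hkc, inv_mul_cancel_left]
        rw [h2]
        exact Subgroup.mul_mem _ (Subgroup.inv_mem _ (h1 hk.2)) (hcc L hL)
    · rw [mul_assoc, ← hkc]

/-- `R` is the product of the `R ∩ K` and `C_R(E(G))` -/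
theorem exists_inner_all {G : Type*} [Group G] [Finite G] {R : Subgroup G}
    (hR : ∀ K : Subgroup G, IsComponent K → ∀ x ∈ R, ∃ k ∈ R ⊓ K, ∃ c ∈ R ⊓ centralizer (K : Set G), x = k * c)
    {s : G} (hs : s ∈ R) :
    ∃ e ∈ ⨆ K : {K : Subgroup G // IsComponent K}, (R ⊓ K.1), ∃ c ∈ R ⊓ centralizer (layer G : Set G), s = e * c := by
  classical
  have : Finite {K : Subgroup G // IsComponent K} := inferInstance
  have := Fintype.ofFinite {K : Subgroup G // IsComponent K}
  obtain ⟨e, he, c, hc, hcc, h⟩ := exists_inner_finset hR Finset.univ hs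
  refine ⟨e, by simpa using he, c, ⟨hc, ?_⟩, h⟩
  have h1 : layer G ≤ centralizer ({c} : Set G) := by
    rw [layer_le_iff]
    intro K hK x hx
    rw [mem_centralizer_singleton_iff]
    exact mem_centralizer_iff.1 (hcc ⟨K, hK⟩ (Finset.mem_univ _)) x hx
  refine mem_centralizer_iff.2 ?_
  intro x hx
  exact mem_centralizer_singleton_iff.1 (h1 hx)

universe u

section

variable {G : Type u} [Group G] [Finite G] {A B : Subgroup G} {S : Sylow 2 G} {K : Subgroup G}

theorem relIndex_component_odd (S : Sylow 2 G) (hK : IsComponent K) : ¬ 2 ∣ (S : Subgroup G).relIndex K := by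
  intro h
  have h3 : (S : Subgroup G).relIndex K ∣ (S : Subgroup G).index :=
    PCompCore.relIndex_dvd_index_of_subnormal (S : Subgroup G) hK.1
  exact S.not_dvd_index (h.trans h3)

/-- All components have abelian Sylow 2-subgroups contained in `A`: impossible. -/
theorem abel_case (hO : pPrimeCore 2 G = ⊥) (h : IsAB (S : Subgroup G) A B)
    (hNA : NoN (S : Subgroup G) A) (hQA : pCore 2 G ⊓ A ≤ B) (hQB : pCore 2 G ⊓ B ≤ A)
    (hc : ∀ K : Subgroup G, IsComponent K → ∀ x ∈ (S : Subgroup G) ⊓ K, ∀ y ∈ (S : Subgroup G) ⊓ K, x * y = y * x)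
    (hle : ∀ K : Subgroup G, IsComponent K → (S : Subgroup G) ⊓ K ≤ A) : False := by
  have hp2 : Fact (Nat.Prime 2) := ⟨Nat.prime_two⟩
  have hVn := V0_normal h hQA hQB
  have hLn : (layer G).Normal := LayerBasic.layer_normal G
  -- `A` normalises the components
  have hAn : ∀ K : Subgroup G, IsComponent K → A ≤ normalizer (K : Set G) := by
    intro K hK a ha
    by_contra hn
    have hL : IsComponent (K.map (MulAut.conj a).toMonoidHom) := isComponent_conj a hK
    have hne : K.map (MulAut.conj a).toMonoidHom ≠ K := fun h1 =>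
      hn (BalanceAux.mem_normalizer_of_map_conj_eq h1)
    have h1 := component_le_centralizer_of_ne hL hK hne
    apply AbStruct.inf_ne_bot hO S hK
    rw [eq_bot_iff]
    intro x hx
    have h2 : x ∈ K ⊓ centralizer (K : Set G) := by
      refine ⟨hx.2, h1 ⟨x, hx.2, ?_⟩⟩
      change a * x * a⁻¹ = x
      rw [h.A_comm a ha x (hle K hK hx), mul_inv_cancel_right]
    rw [inf_centralizer_eq_bot hO hK (hc K hK)] at h2
    exact h2
  have hAinner : ∀ K : Subgroup G, IsComponent K → ∀ x ∈ A, ∃ k ∈ A ⊓ K, ∃ c ∈ A ⊓ centralizer (K : Set G),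
      x = k * c := by
    intro K hK x hx
    refine exists_inner_of (isSimpleGroup_of_comm hO hK (hc K hK)) (inf_centralizer_eq_bot hO hK (hc K hK))
      (hAn K hK) (S.isPGroup'.to_le h.A_le) h.A_comm ?_ (AbStruct.two_dvd_card hO hK) hx
    have h1 : A ⊓ K = (S : Subgroup G) ⊓ K :=
      le_antisymm (inf_le_inf_right K h.A_le) (le_inf (hle K hK) inf_le_right)
    rw [← inf_relIndex_right, h1, inf_relIndex_right]
    exact relIndex_component_odd S hK
  have hSE : ∀ K : Subgroup G, IsComponent K → ∀ x ∈ (S : Subgroup G) ⊓ layer G,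
      ∃ k ∈ (S : Subgroup G) ⊓ layer G ⊓ K, ∃ c ∈ (S : Subgroup G) ⊓ layer G ⊓ centralizer (K : Set G), x = k * c := by
    intro K hK x hx
    have h1 : layer G ≤ K ⊔ centralizer (K : Set G) := by
      rw [layer_le_iff]
      intro L hL
      by_cases hLK : L = K
      · rw [hLK]; exact le_sup_left
      · exact (component_le_centralizer_of_ne hL hK hLK).trans le_sup_right
    obtain ⟨k, hk, c, hc', e⟩ := exists_of_mem_sup (h1 hx.2)
    obtain ⟨hkS, hcS⟩ := split_of_mul (center_le_sylow hO S hK) (AbStruct.exists_sylow S hK) hx.1 hk hc' e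
    have hkE : k ∈ layer G := component_le_layer hK hk
    refine ⟨k, ⟨⟨hkS, hkE⟩, hk⟩, c, ⟨⟨hcS, ?_⟩, hc'⟩, e⟩
    have : c = k⁻¹ * x := by rw [e]; group
    rw [this]
    exact (layer G).mul_mem ((layer G).inv_mem hkE) hx.2
  have hPA : ∀ {R : Subgroup G}, R ≤ S → (⨆ K : {K : Subgroup G // IsComponent K}, (R ⊓ K.1)) ≤ A := fun hR =>
    iSup_le fun K => (inf_le_inf_right K.1 hR).trans (hle K.1 K.2)
  have hPL : ∀ {R : Subgroup G}, (⨆ K : {K : Subgroup G // IsComponent K}, (R ⊓ K.1)) ≤ layer G := fun {R} =>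
    iSup_le fun K => inf_le_right.trans (component_le_layer K.2)
  -- `S ∩ E(G) ≤ A`
  have hSEA : (S : Subgroup G) ⊓ layer G ≤ A := by
    obtain ⟨T, hT⟩ := AbStruct.exists_sylow_of_subnormal S (Subgroup.Normal.isSubnormal hLn)
    have hcomm : ∀ x ∈ (S : Subgroup G) ⊓ layer G, ∀ y ∈ (S : Subgroup G) ⊓ layer G, x * y = y * x := by
      intro x hx y hy
      obtain ⟨p, hp, c, hc1, rfl⟩ := exists_inner_all hSE hx
      obtain ⟨q, hq, d, hd1, rfl⟩ := exists_inner_all hSE hy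
      have e1 : p * q = q * p := h.A_comm _ (hPA inf_le_left hp) _ (hPA inf_le_left hq)
      have e2 : q * c = c * q := mem_centralizer_iff.1 hc1.2 q (hPL hq)
      have e3 : p * d = d * p := mem_centralizer_iff.1 hd1.2 p (hPL hp)
      have e4 : c * d = d * c := mem_centralizer_iff.1 hd1.2 c hc1.1.2
      calc p * c * (q * d) = p * (c * q) * d := by group
        _ = (p * q) * (c * d) := by rw [← e2]; group
        _ = q * (p * d) * c := by rw [e1, e4]; group
        _ = q * d * (p * c) := by rw [e3]; group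
    intro x hx
    obtain ⟨p, hp, c, hc1, rfl⟩ := exists_inner_all hSE hx
    have hmem : ∀ x : layer G, x ∈ (T : Subgroup (layer G)) → (x : G) ∈ (S : Subgroup G) ⊓ layer G := fun x hx => by
      rw [hT] at hx
      exact ⟨mem_subgroupOf.1 hx, x.2⟩
    have h1 := center_mem (X := layer G) (W := ⊥) (layer_isPerfect (G := G)).commutator_eq_top T
      (fun w hw x _ => by rw [mem_bot.1 hw]; simp) (fun x hx y hy => ⟨1, one_mem _, by
        rw [mul_one]
        exact Subtype.ext (hcomm x (hmem x hx) y (hmem y hy))⟩) (z := ⟨c, hc1.1.2⟩) (by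
        rw [mem_center_iff]
        intro y
        exact Subtype.ext (mem_centralizer_iff.1 hc1.2 y y.2)) (by
        rw [hT]
        exact mem_subgroupOf.2 hc1.1.1)
    have h2 : c = 1 := congrArg Subtype.val (mem_bot.1 h1)
    rw [h2, mul_one]
    exact hPA inf_le_left hp
  refine hNA (layer G ⊔ (pCore 2 G ⊓ (A ⊓ B))) inferInstance ?_ ?_
  · intro a ha
    obtain ⟨e, he, c, hc1, rfl⟩ := exists_inner_all hAinner ha
    have h1 := inf_centralizer_layer_le hO h hQA hQB ⟨h.A_le hc1.1, hc1.2⟩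
    exact mul_mem (mem_sup_left (hPL he)) (mem_sup_right ⟨h1, hc1.1, hQA ⟨h1, hc1.1⟩⟩)
  · rintro s ⟨hs, hsN⟩
    obtain ⟨e, he, v, hv, rfl⟩ := (mem_sup_of_normal_left (hs := hLn)).1 hsN
    have hvS : v ∈ (S : Subgroup G) := h.Z_le hv.2
    have heS : e ∈ (S : Subgroup G) := by
      have := (S : Subgroup G).mul_mem hs ((S : Subgroup G).inv_mem hvS)
      rwa [mul_inv_cancel_right] at this
    exact mul_mem (hSEA ⟨heS, he⟩) hv.2.1

/-- Some component has nonabelian Sylow 2-subgroups. -/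
theorem exists_component (hW : WalThm.{u}) (hO : pPrimeCore 2 G = ⊥) (h : IsAB (S : Subgroup G) A B)
    (hNA : NoN (S : Subgroup G) A) (hNB : NoN (S : Subgroup G) B) :
    ∃ K : Subgroup G, IsComponent K ∧
      ¬ ∀ x ∈ (S : Subgroup G) ⊓ K, ∀ y ∈ (S : Subgroup G) ⊓ K, x * y = y * x := by
  by_contra hcon
  push Not at hcon
  have hc : ∀ K : Subgroup G, IsComponent K → ∀ x ∈ (S : Subgroup G) ⊓ K, ∀ y ∈ (S : Subgroup G) ⊓ K,
      x * y = y * x := hcon
  have hQA := pCore_inf_le h hNA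
  have hQB := pCore_inf_le h.symm hNB
  set P : Subgroup G := ⨆ K : {K : Subgroup G // IsComponent K}, ((S : Subgroup G) ⊓ K.1) with hP
  have hPS : P ≤ S := iSup_le fun K => inf_le_left
  have hPc : ∀ K : Subgroup G, IsComponent K → ∀ x ∈ (S : Subgroup G) ⊓ K, P ≤ centralizer ({x} : Set G) := by
    intro K hK x hx
    refine iSup_le fun L => ?_
    intro y hy
    rw [mem_centralizer_singleton_iff]
    by_cases hKL : L.1 = K
    · exact hc K hK y ⟨hy.1, hKL ▸ hy.2⟩ x hx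
    · have h1 := component_le_centralizer_of_ne L.2 hK hKL
      exact (mem_centralizer_iff.1 (h1 hy.2) x hx.2).symm
  have hPc' : ∀ y ∈ P, P ≤ centralizer ({y} : Set G) := by
    intro y hy
    refine iSup_le fun K => ?_
    intro x hx
    rw [mem_centralizer_singleton_iff]
    exact (mem_centralizer_singleton_iff.1 (hPc K.1 K.2 x hx hy)).symm
  have hPsq : ∀ y ∈ P, y * y = 1 := by
    let D : Subgroup G :=
      { carrier := {y | y ∈ P ∧ y * y = 1}
        one_mem' := ⟨one_mem _, one_mul 1⟩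
        mul_mem' := by
          rintro x y ⟨hx, hxx⟩ ⟨hy, hyy⟩
          refine ⟨mul_mem hx hy, ?_⟩
          have h1 : x * y = y * x := mem_centralizer_singleton_iff.1 (hPc' y hy hx)
          calc x * y * (x * y) = x * (y * x) * y := by group
            _ = (x * x) * (y * y) := by rw [← h1]; group
            _ = 1 := by rw [hxx, hyy, one_mul]
        inv_mem' := by
          rintro x ⟨hx, hxx⟩
          refine ⟨inv_mem hx, ?_⟩
          rw [← mul_inv_rev, hxx, inv_one] }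
    have h1 : P ≤ D := iSup_le fun K x hx =>
      ⟨(le_iSup (fun K : {K : Subgroup G // IsComponent K} => (S : Subgroup G) ⊓ K.1) K) hx,
        sq_of_comm hW hO K.2 (hc K.1 K.2) x hx⟩
    intro y hy
    exact (h1 hy).2
  have hle : ∀ K : Subgroup G, IsComponent K → (S : Subgroup G) ⊓ K ≤ P := fun K hK =>
    le_iSup (fun K : {K : Subgroup G // IsComponent K} => (S : Subgroup G) ⊓ K.1) ⟨K, hK⟩
  rcases h.le_or_le hPS hPsq with h1 | h1
  · exact abel_case hO h hNA hQA hQB hc (fun K hK => (hle K hK).trans h1)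
  · exact abel_case hO h.symm hNB hQB hQA hc (fun K hK => (hle K hK).trans h1)

end

end Cfsg.Agent.H306.AB
end

-- part: H306/AB/Main
section
/-!
# Groups with Sylow 2-subgroup `S = AB`, `O(G) = 1` (helper306)
-/

set_option autoImplicit false
open Cfsg

namespace Cfsg.Agent.H306.AB

open Subgroup Cfsg.Agent.Lib.GoldschmidtFusion
open Cfsg.Agent.SignalizersComponents
open Cfsg.Agent.SignalizersComponents.Components
open Cfsg.Agent.Walter
open Cfsg.Agent.ClassicalGeometry.SympAutSemi (quotAut quotAut_mk)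
open scoped commutatorElement

section

variable {G : Type*} [Group G] [Finite G] {A B : Subgroup G} {S : Sylow 2 G} {K : Subgroup G}

theorem isAB_component (h : IsAB (S : Subgroup G) A B) (hK : IsComponent K)
    (hnc : ¬ ∀ x ∈ (S : Subgroup G) ⊓ K, ∀ y ∈ (S : Subgroup G) ⊓ K, x * y = y * x) :
    IsAB ((S : Subgroup G).subgroupOf K) (A.subgroupOf K) (B.subgroupOf K) := by
  have hn := le_normalizer_of_not_comm h hK hnc
  set Y : Subgroup G := K ⊔ (S : Subgroup G) with hY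
  have hKY : K ≤ Y := le_sup_left
  have hSY : (S : Subgroup G) ≤ Y := le_sup_right
  have hKn : (K.subgroupOf Y).Normal := by
    rw [normal_subgroupOf_iff_le_normalizer hKY]
    exact sup_le Subgroup.le_normalizer hn
  have hY1 : IsAB ((S.subtype hSY : Sylow 2 Y) : Subgroup Y) (A.subgroupOf Y) (B.subgroupOf Y) := by
    rw [Sylow.coe_subtype]
    exact h.subgroupOf hSY
  have hperf : ⁅K.subgroupOf Y, K.subgroupOf Y⁆ = K.subgroupOf Y := by
    apply Subgroup.map_injective Y.subtype_injective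
    rw [map_commutator, map_subgroupOf_eq_of_le hKY]
    exact component_commutator_self hK
  have htop : K.subgroupOf Y ⊔ ((S.subtype hSY : Sylow 2 Y) : Subgroup Y) = ⊤ := by
    rw [Sylow.coe_subtype, ← subgroupOf_sup hKY hSY, ← hY, subgroupOf_self]
  have h1 := hY1.exists_mul_of_perfect hKn hperf htop
  have hprod : ∀ s ∈ (S : Subgroup G) ⊓ K, ∃ a ∈ A ⊓ ((S : Subgroup G) ⊓ K), ∃ b ∈ B ⊓ ((S : Subgroup G) ⊓ K),
      a * b = s := by
    rintro s ⟨hs, hsK⟩
    obtain ⟨a, ha, b, hb, e⟩ := h1 ⟨s, hKY hsK⟩ (by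
      rw [Sylow.coe_subtype]
      exact ⟨mem_subgroupOf.2 hs, mem_subgroupOf.2 hsK⟩)
    have haA : (a : G) ∈ A := mem_subgroupOf.1 ha.1
    have hbB : (b : G) ∈ B := mem_subgroupOf.1 hb.1
    exact ⟨a, ⟨haA, h.A_le haA, mem_subgroupOf.1 ha.2⟩, b, ⟨hbB, h.B_le hbB, mem_subgroupOf.1 hb.2⟩,
      congrArg Subtype.val e⟩
  have h2 := (h.inf_of_prod inf_le_left hprod hnc).subgroupOf (C := K) inf_le_right
  have e0 : ((S : Subgroup G) ⊓ K).subgroupOf K = (S : Subgroup G).subgroupOf K := inf_subgroupOf_right _ _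
  have e1 : ∀ D : Subgroup G, D ≤ S → (D ⊓ ((S : Subgroup G) ⊓ K)).subgroupOf K = D.subgroupOf K := by
    intro D hD
    rw [← inf_assoc, inf_eq_left.2 hD]
    exact inf_subgroupOf_right _ _
  rwa [e0, e1 A h.A_le, e1 B h.B_le] at h2

/-- if `|A ∩ B ∩ K| = 2` then `|S : A| = 2` -/
theorem relIndex_of_card_two {S : Subgroup G} (h : IsAB S A B)
    (hK' : IsAB (S.subgroupOf K) (A.subgroupOf K) (B.subgroupOf K)) (hn : S ≤ normalizer (K : Set G))
    (hcard : Nat.card (A.subgroupOf K ⊓ B.subgroupOf K : Subgroup K) = 2) : A.relIndex S = 2 := by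
  obtain ⟨a₀, ha₀, ha₀B⟩ := hK'.neA
  obtain ⟨b₀, hb₀, hb₀A⟩ := hK'.neB
  rw [mem_subgroupOf] at ha₀ ha₀B hb₀ hb₀A
  have huniq : ∀ u ∈ A ⊓ B, u ∈ K → u ≠ 1 → ∀ v ∈ A ⊓ B, v ∈ K → v ≠ 1 → u = v := by
    intro u hu huK hu1 v hv hvK hv1
    obtain ⟨w, hw, hw'⟩ := (Nat.card_eq_two_iff' (1 : (A.subgroupOf K ⊓ B.subgroupOf K : Subgroup K))).1 hcard
    have h1 := hw' ⟨⟨u, huK⟩, mem_subgroupOf.2 hu.1, mem_subgroupOf.2 hu.2⟩
      (fun h2 => hu1 (congrArg (fun x : (A.subgroupOf K ⊓ B.subgroupOf K : Subgroup K) => ((x : K) : G)) h2))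
    have h2 := hw' ⟨⟨v, hvK⟩, mem_subgroupOf.2 hv.1, mem_subgroupOf.2 hv.2⟩
      (fun h2 => hv1 (congrArg (fun x : (A.subgroupOf K ⊓ B.subgroupOf K : Subgroup K) => ((x : K) : G)) h2))
    exact congrArg (fun x : (A.subgroupOf K ⊓ B.subgroupOf K : Subgroup K) => ((x : K) : G)) (h1.trans h2.symm)
  have hbr : ∀ b ∈ B, b ∉ A → (a₀ : G) * b * (a₀ : G)⁻¹ * b⁻¹ ∈ A ⊓ B ∧
      (a₀ : G) * b * (a₀ : G)⁻¹ * b⁻¹ ∈ K ∧ (a₀ : G) * b * (a₀ : G)⁻¹ * b⁻¹ ≠ 1 := by
    intro b hb hbA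
    refine ⟨h.br _ ha₀ b hb, ?_, ?_⟩
    · have h1 := (mem_normalizer_iff.1 (hn (h.B_le hb)) _).1 (K.inv_mem a₀.2)
      have h2 := K.mul_mem a₀.2 h1
      have e : (a₀ : G) * (b * (a₀ : G)⁻¹ * b⁻¹) = (a₀ : G) * b * (a₀ : G)⁻¹ * b⁻¹ := by group
      rwa [e] at h2
    · intro h1
      apply hbA
      refine h.centA _ ha₀ ha₀B b (h.B_le hb) ?_
      have h2 := congrArg (fun t => t * b * (a₀ : G)) h1
      simpa [mul_assoc] using h2
  rw [h.relIndex_A, relIndex, index_eq_two_iff']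
  refine ⟨⟨(b₀ : G)⁻¹, inv_mem hb₀⟩, fun b => ?_⟩
  by_cases hbA : (b : G) ∈ A
  · right
    refine ⟨mem_subgroupOf.2 ⟨hbA, b.2⟩, fun h1 => hb₀A ?_⟩
    have h2 : (b₀ : G)⁻¹ * b ∈ A := (mem_subgroupOf.1 h1).1
    have h3 := mul_mem h2 (inv_mem hbA)
    rw [mul_inv_cancel_right] at h3
    simpa using inv_mem h3
  · left
    refine ⟨?_, fun h1 => hbA (mem_subgroupOf.1 h1).1⟩
    obtain ⟨p1, p2, p3⟩ := hbr b b.2 hbA
    obtain ⟨q1, q2, q3⟩ := hbr b₀ hb₀ hb₀A
    have heq := huniq _ p1 p2 p3 _ q1 q2 q3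
    have hcomm : (a₀ : G) * ((b₀ : G)⁻¹ * b) = ((b₀ : G)⁻¹ * b) * a₀ := by
      set z := (a₀ : G) * b₀ * (a₀ : G)⁻¹ * (b₀ : G)⁻¹ with hz
      have e1 : (a₀ : G) * b = z * b * a₀ := by rw [← heq]; group
      have e2 : (a₀ : G) * (b₀ : G)⁻¹ = (b₀ : G)⁻¹ * z⁻¹ * a₀ := by rw [hz]; group
      calc (a₀ : G) * ((b₀ : G)⁻¹ * b) = ((a₀ : G) * (b₀ : G)⁻¹) * b := by group
        _ = (b₀ : G)⁻¹ * z⁻¹ * ((a₀ : G) * b) := by rw [e2]; group
        _ = ((b₀ : G)⁻¹ * b) * a₀ := by rw [e1]; group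
    have h4 := h.centA _ ha₀ ha₀B _ (mul_mem (inv_mem (h.B_le hb₀)) (h.B_le b.2)) hcomm
    exact mem_subgroupOf.2 ⟨h4, B.mul_mem (B.inv_mem hb₀) b.2⟩

/-- if `K / Z(K)` is rigid then `S` acts on `K` by inner automorphisms -/
theorem exists_inner_of_rigid (hO : pPrimeCore 2 G = ⊥) (h : IsAB (S : Subgroup G) A B) (hK : IsComponent K)
    (hn : (S : Subgroup G) ≤ normalizer (K : Set G)) (hR : Rigid (K ⧸ center K)) {s : G} (hs : s ∈ (S : Subgroup G)) :
    ∃ k ∈ (S : Subgroup G) ⊓ K, ∃ c ∈ (S : Subgroup G) ⊓ centralizer (K : Set G), s = k * c := by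
  have hp2 : Fact (Nat.Prime 2) := ⟨Nat.prime_two⟩
  obtain ⟨P, hP⟩ := AbStruct.exists_sylow S hK
  let φ : MulAut K := K.normalizerMonoidHom ⟨s, hn hs⟩
  have hφ : ∀ x : K, ((φ x : K) : G) = s * x * s⁻¹ := fun x => rfl
  have hπs : Function.Surjective (QuotientGroup.mk' (center K)) := QuotientGroup.mk'_surjective _
  have hcm : CentMod ((P.mapSurjective hπs : Sylow 2 (K ⧸ center K)) : Subgroup (K ⧸ center K)) (quotAut φ) := by
    rintro _ ⟨x, hx, rfl⟩
    have hxS : (x : G) ∈ (S : Subgroup G) := by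
      rw [hP] at hx
      exact mem_subgroupOf.1 hx
    have e1 : (QuotientGroup.mk' (center K) x)⁻¹ * (quotAut φ) (QuotientGroup.mk' (center K) x) =
        QuotientGroup.mk' (center K) (x⁻¹ * φ x) := by
      rw [map_mul, map_inv]
      rfl
    rw [e1]
    have hz : (x : G)⁻¹ * (s * x * s⁻¹) ∈ A ⊓ B := by
      have h1 := h.comm_mem (inv_mem hxS) hs
      have e2 : (x : G)⁻¹ * s * ((x : G)⁻¹)⁻¹ * s⁻¹ = (x : G)⁻¹ * (s * x * s⁻¹) := by group
      rwa [e2] at h1
    refine ⟨⟨_, ?_, rfl⟩, ?_⟩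
    · change x⁻¹ * φ x ∈ (P : Subgroup K)
      rw [hP]
      exact mem_subgroupOf.2 (h.Z_le hz)
    · rintro _ ⟨y, hy, rfl⟩
      have hyS : (y : G) ∈ (S : Subgroup G) := by
        have hy' : y ∈ (P : Subgroup K) := hy
        rw [hP] at hy'
        exact mem_subgroupOf.1 hy'
      rw [← map_mul, ← map_mul]
      congr 1
      apply Subtype.ext
      exact h.comm_Z hz hyS
  obtain ⟨m, hm⟩ := hR _ _ hcm
  obtain ⟨k, rfl⟩ := hπs m
  have hf : (MulAut.conj k)⁻¹ * φ = 1 := by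
    apply LThreeFi24.EmptyAbs.eq_one_of_quot hK.2.1
    intro x
    have h1 := DFunLike.congr_fun hm (QuotientGroup.mk' (center K) x)
    have h2 : QuotientGroup.mk' (center K) (φ x) = QuotientGroup.mk' (center K) (k * x * k⁻¹) := by
      rw [map_mul, map_mul, map_inv]
      exact h1
    have h3 : QuotientGroup.mk' (center K) (((MulAut.conj k)⁻¹ * φ) x * x⁻¹) = 1 := by
      have e1 : ((MulAut.conj k)⁻¹ * φ) x = k⁻¹ * φ x * k := by
        rw [MulAut.mul_apply, MulAut.conj_inv_apply]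
      rw [e1, map_mul, map_mul, map_mul, h2, map_mul, map_mul, map_inv, map_inv]
      group
    exact (QuotientGroup.eq_one_iff _).1 h3
  have hcen : (k : G)⁻¹ * s ∈ centralizer (K : Set G) := by
    rw [mem_centralizer_iff]
    intro x hx
    have h1 := DFunLike.congr_fun hf ⟨x, hx⟩
    rw [MulAut.mul_apply, MulAut.conj_inv_apply, MulAut.one_apply] at h1
    have h2 : (k : G)⁻¹ * (s * x * s⁻¹) * k = x := congrArg Subtype.val h1
    calc x * ((k : G)⁻¹ * s) = ((k : G)⁻¹ * (s * x * s⁻¹) * k) * ((k : G)⁻¹ * s) := by rw [h2]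
      _ = (k : G)⁻¹ * s * x := by group
  have e : s = k * ((k : G)⁻¹ * s) := by group
  obtain ⟨h1, h2⟩ := split_of_mul (center_le_sylow hO S hK) ⟨P, hP⟩ hs k.2 hcen e
  exact ⟨k, ⟨h1, k.2⟩, _, ⟨h2, hcen⟩, e⟩

end

universe u

/-- the main conclusion -/
def Big {G : Type u} [Group G] (S A B : Subgroup G) : Prop :=
  ∃ (F : Type) (_ : Field F) (_ : Fintype F), A.relIndex S = Fintype.card F ∧ B.relIndex S = Fintype.card F ∧
    ∃ L : Subgroup G, L.Normal ∧ IsQuasisimple L ∧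
      (Nonempty (L ⧸ center L ≃* Matrix.ProjectiveSpecialLinearGroup (Fin 3) F) ∨
        Nonempty (L ⧸ center L ≃* Cfsg.PSp 2 F)) ∧
      S ≤ L ⊔ centralizer (L : Set G) ∧ S ⊓ centralizer (L : Set G) ≤ A ⊓ B ∧
      ¬ ∀ x ∈ S ⊓ L, ∀ y ∈ S ⊓ L, x * y = y * x

section

variable {G : Type u} [Group G] [Finite G] {A B : Subgroup G} {S : Sylow 2 G} {K : Subgroup G}

theorem comm_of_equiv {K L : Type*} [Group K] [Group L] [Finite K] [Finite L] (e : K ≃* L) (P : Sylow 2 K)
    (Q : Sylow 2 L) (hQ : ∀ x ∈ (Q : Subgroup L), ∀ y ∈ (Q : Subgroup L), x * y = y * x) :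
    ∀ x ∈ (P : Subgroup K), ∀ y ∈ (P : Subgroup K), x * y = y * x := by
  have hp2 : Fact (Nat.Prime 2) := ⟨Nat.prime_two⟩
  obtain ⟨f⟩ : Nonempty ((P.mapSurjective (f := e.toMonoidHom) e.surjective : Sylow 2 L) ≃* Q) :=
    ⟨Sylow.equiv _ _⟩
  intro x hx y hy
  have h1 : e x ∈ ((P.mapSurjective (f := e.toMonoidHom) e.surjective : Sylow 2 L) : Subgroup L) := ⟨x, hx, rfl⟩
  have h2 : e y ∈ ((P.mapSurjective (f := e.toMonoidHom) e.surjective : Sylow 2 L) : Subgroup L) := ⟨y, hy, rfl⟩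
  have h3 : f ⟨e x, h1⟩ * f ⟨e y, h2⟩ = f ⟨e y, h2⟩ * f ⟨e x, h1⟩ :=
    Subtype.ext (hQ _ (f ⟨e x, h1⟩).2 _ (f ⟨e y, h2⟩).2)
  rw [← map_mul, ← map_mul] at h3
  have h4 : e x * e y = e y * e x := congrArg Subtype.val (f.injective h3)
  rw [← map_mul, ← map_mul] at h4
  exact e.injective h4

/-- **Groups with `O(G) = 1` and Sylow 2-subgroup `S = AB`.** -/
theorem main (hW : WalThm.{u}) (hC : Cl2Thm.{u}) (hO : pPrimeCore 2 G = ⊥) (h : IsAB (S : Subgroup G) A B)
    (hNA : NoN (S : Subgroup G) A) (hNB : NoN (S : Subgroup G) B) :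
    (A.relIndex S = 2 ∧ B.relIndex S = 2) ∨ Big (S : Subgroup G) A B := by
  have hp2 : Fact (Nat.Prime 2) := ⟨Nat.prime_two⟩
  obtain ⟨K, hK, hnc⟩ := exists_component hW hO h hNA hNB
  have hn := le_normalizer_of_not_comm h hK hnc
  have hK' := isAB_component h hK hnc
  obtain ⟨P, hP⟩ := AbStruct.exists_sylow S hK
  have hK'' : IsAB (P : Subgroup K) (A.subgroupOf K) (B.subgroupOf K) := by rw [hP]; exact hK'
  have hZP : center K ≤ P := by
    intro z hz
    rw [hP]
    exact mem_subgroupOf.2 (center_le_sylow hO S hK (AbStruct.mem_inf_centralizer_iff.2 ⟨z.2, hz⟩))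
  rcases quasi_main hW hC hK.2 P hK'' hZP with hcard | ⟨F, i1, i2, hF, h4, hiso, hiA, hiB⟩
  · left
    refine ⟨relIndex_of_card_two h hK' hn hcard, relIndex_of_card_two h.symm hK'.symm hn ?_⟩
    rw [inf_comm]; exact hcard
  · right
    have hR : Rigid (K ⧸ center K) := by
      rcases hiso with ⟨⟨e⟩⟩ | ⟨⟨e⟩⟩
      · exact rigid_psl3.of_equiv e
      · have : Finite (Matrix.symplecticGroup (Fin 2) F) := inferInstance
        have : Finite (Cfsg.PSp 2 F) := inferInstance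
        exact (Sp.rigid_psp h4).of_equiv e
    have hin : ∀ s ∈ (S : Subgroup G), ∃ k ∈ (S : Subgroup G) ⊓ K, ∃ c ∈ (S : Subgroup G) ⊓ centralizer (K : Set G),
        s = k * c := fun s hs => exists_inner_of_rigid hO h hK hn hR hs
    obtain ⟨a₀, ha₀, ha₀B⟩ := hK'.neA
    obtain ⟨b₀, hb₀, hb₀A⟩ := hK'.neB
    rw [mem_subgroupOf] at ha₀ ha₀B hb₀ hb₀A
    have hD : (S : Subgroup G) ⊓ centralizer (K : Set G) ≤ A ⊓ B := by
      rintro c ⟨hc, hcK⟩
      exact ⟨h.centA a₀ ha₀ ha₀B c hc (mem_centralizer_iff.1 hcK a₀ a₀.2),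
        h.centB b₀ hb₀ hb₀A c hc (mem_centralizer_iff.1 hcK b₀ b₀.2)⟩
    have hidx : ∀ {A B : Subgroup G}, IsAB (S : Subgroup G) A B → (S : Subgroup G) ⊓ centralizer (K : Set G) ≤ A →
        (A.subgroupOf K).relIndex P = A.relIndex S := by
      intro A B h hDA
      have h1 : A.relIndex S = A.relIndex ((S : Subgroup G) ⊓ K : Subgroup G) := by
        refine Models.relIndex_of_prod h.A_le inf_le_left h.S_le_normalizer_A ?_
        intro s hs
        obtain ⟨k, hk, c, hc, rfl⟩ := hin s hs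
        have e : k * c = c * k := mem_centralizer_iff.1 hc.2 k hk.2
        exact ⟨c, hDA hc, k, hk, e.symm⟩
      rw [h1, hP]
      have h2 : (S : Subgroup G).subgroupOf K = ((S : Subgroup G) ⊓ K).subgroupOf K :=
        (inf_subgroupOf_right _ _).symm
      rw [h2, relIndex_subgroupOf inf_le_right]
    have hKn : K.Normal := by
      refine ⟨fun x hx g => ?_⟩
      by_contra hg
      have hL : IsComponent (K.map (MulAut.conj g).toMonoidHom) := isComponent_conj g hK
      have hne : K.map (MulAut.conj g).toMonoidHom ≠ K := by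
        intro h1
        apply hg
        have h2 : (MulAut.conj g) x ∈ K.map (MulAut.conj g).toMonoidHom := ⟨x, hx, rfl⟩
        rw [h1] at h2
        exact h2
      have h1 := component_le_centralizer_of_ne hL hK hne
      obtain ⟨Q, hQ⟩ := AbStruct.exists_sylow S hL
      apply hnc
      have h2 := comm_of_equiv (K.equivMapOfInjective (MulAut.conj g).toMonoidHom (MulAut.conj g).injective) P Q (by
        intro x hx y hy
        rw [hQ] at hx hy
        apply Subtype.ext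
        exact h.comm_Z (hD ⟨mem_subgroupOf.1 hx, h1 x.2⟩) (mem_subgroupOf.1 hy))
      intro x hx y hy
      have h3 := h2 ⟨x, hx.2⟩ (by rw [hP]; exact mem_subgroupOf.2 hx.1) ⟨y, hy.2⟩
        (by rw [hP]; exact mem_subgroupOf.2 hy.1)
      exact congrArg Subtype.val h3
    refine ⟨F, i1, i2, ?_, ?_, K, hKn, hK.2, hiso, ?_, hD, hnc⟩
    · rw [← hidx h (hD.trans inf_le_left), hiA]
    · rw [← hidx h.symm (hD.trans inf_le_right), hiB]
    · intro s hs
      obtain ⟨k, hk, c, hc, rfl⟩ := hin s hs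
      exact mul_mem (mem_sup_left hk.2) (mem_sup_right hc.2)

end

end Cfsg.Agent.H306.AB
end

-- part: H306/AB/Final
section
/-!
# S3187: assembly (helper306)
-/

set_option autoImplicit false
open Cfsg

namespace Cfsg.Agent.H306.AB

open Subgroup Cfsg.Agent.Lib.GoldschmidtFusion
open Cfsg.Agent.SignalizersComponents
open Cfsg.Agent.SignalizersComponents.Components
open Cfsg.Agent.Walter
open scoped commutatorElement

universe u

/-- the conclusions (2) and (3) -/
def Clo {G : Type u} [Group G] (A' : Subgroup G) : Prop :=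
  ∃ P : Sylow 2 ↥(Subgroup.normalClosure (A' : Set G)),
    ((P : Subgroup ↥(Subgroup.normalClosure (A' : Set G))).map (Subgroup.normalClosure (A' : Set G)).subtype) = A'

/-- the conclusion (4) -/
def Cen {G : Type u} [Group G] (q : ℕ) : Prop :=
  ∃ (X : Subgroup G) (_ : X = Subgroup.closure {g : G | ∃ k : ℕ, orderOf g = 2 ^ k}),
    ∃ K L : Subgroup (↥X ⧸ Cfsg.oddCore ↥X), (∀ a ∈ K, ∀ l ∈ L, a * l = l * a) ∧ K ⊔ L = ⊤ ∧
      (∀ P : Sylow 2 ↥K, IsMulCommutative ↥(P : Subgroup ↥K) ∧ ∀ x ∈ (P : Subgroup ↥K), x ^ 2 = 1) ∧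
      Group.IsPerfect ↥L ∧
      ∃ (F : Type) (_ : Field F) (_ : Fintype F), Fintype.card F = q ∧
        (Nonempty (↥L ⧸ Subgroup.center ↥L ≃* Matrix.ProjectiveSpecialLinearGroup (Fin 3) F) ∨
          Nonempty (↥L ⧸ Subgroup.center ↥L ≃* Cfsg.PSp 2 F))

section

variable {G : Type u} [Group G] [Finite G] {S : Sylow 2 G}

theorem clo_of {A' N : Subgroup G} (hA : A' ≤ S) (hN : N.Normal) (hAN : A' ≤ N) (hSN : (S : Subgroup G) ⊓ N ≤ A') :
    Clo A' := by
  have hCn : (normalClosure (A' : Set G)).Normal := normalClosure_normal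
  obtain ⟨P, hP⟩ := AbStruct.exists_sylow_of_subnormal S (Subgroup.Normal.isSubnormal hCn)
  refine ⟨P, ?_⟩
  rw [hP, subgroupOf_map_subtype]
  apply le_antisymm
  · rintro s ⟨hs, hsC⟩
    exact hSN ⟨hs, normalClosure_le_normal hAN hsC⟩
  · exact le_inf hA subset_normalClosure

/-- passing to `G / O(G)` -/
theorem inj_of_sylow (S : Sylow 2 G) : ∀ x ∈ (S : Subgroup G), QuotientGroup.mk' (pPrimeCore 2 G) x = 1 → x = 1 := by
  intro x hx h1
  have h2 : x ∈ pPrimeCore 2 G := (QuotientGroup.eq_one_iff x).1 h1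
  have h3 : orderOf x ∣ Nat.card (pPrimeCore 2 G) := by
    rw [← Subgroup.orderOf_mk x h2]
    exact orderOf_dvd_natCard _
  obtain ⟨k, hk⟩ := S.isPGroup' ⟨x, hx⟩
  have hk' : x ^ 2 ^ k = 1 := congrArg Subtype.val hk
  have h4 : (2 ^ k).Coprime (Nat.card (pPrimeCore 2 G)) := Nat.Coprime.pow_left k (Lib.Cores.pPrimeCore_coprime 2).symm
  rw [← orderOf_eq_one_iff]
  exact Nat.eq_one_of_dvd_coprimes h4 (orderOf_dvd_of_pow_eq_one hk') h3

theorem clo_of_not_noN (S : Sylow 2 G) {A' : Subgroup G} (hA : A' ≤ S)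
    (h : ¬ NoN ((S : Subgroup G).map (QuotientGroup.mk' (pPrimeCore 2 G))) (A'.map (QuotientGroup.mk' (pPrimeCore 2 G)))) :
    Clo A' := by
  unfold NoN at h
  push Not at h
  obtain ⟨N, hN, hAN, hSN⟩ := h
  refine clo_of (S := S) (N := N.comap (QuotientGroup.mk' (pPrimeCore 2 G))) hA inferInstance ?_ ?_
  · rw [← map_le_iff_le_comap]; exact hAN
  · rintro s ⟨hs, hsN⟩
    obtain ⟨a, ha, e⟩ := hSN ⟨⟨s, hs, rfl⟩, hsN⟩
    have := IsAB.inj_of_ker (inj_of_sylow S) (hA ha) hs e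
    rwa [← this]

/-- generators of `X` are 2-elements -/
theorem mem_of_two_element {Q : Type*} [Group Q] [Finite Q] (T : Sylow 2 Q) {M : Subgroup Q} (hM : M.Normal)
    (hTM : (T : Subgroup Q) ≤ M) {x : Q} {k : ℕ} (hx : x ^ 2 ^ k = 1) : x ∈ M := by
  have hp2 : Fact (Nat.Prime 2) := ⟨Nat.prime_two⟩
  have h1 : IsPGroup 2 (zpowers x) := by
    have h4 : Nat.card (zpowers x) ∣ 2 ^ k := by
      rw [Nat.card_zpowers]
      exact orderOf_dvd_of_pow_eq_one hx
    obtain ⟨r, -, hr⟩ := (Nat.dvd_prime_pow Nat.prime_two).1 h4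
    exact IsPGroup.of_card hr
  obtain ⟨P, hP⟩ := h1.exists_le_sylow
  obtain ⟨g, hg⟩ := MulAction.exists_smul_eq Q T P
  have h2 : x ∈ (P : Subgroup Q) := hP (mem_zpowers x)
  rw [← hg] at h2
  obtain ⟨y, hy, hyx⟩ : ∃ y ∈ (T : Subgroup Q), g * y * g⁻¹ = x := h2
  rw [← hyx]
  exact hM.conj_mem y (hTM hy) g

/-- the central product in a subgroup `Y` of `Q` containing the Sylow 2-subgroups -/
theorem cen_aux {Q : Type u} {Y : Type u} [Group Q] [Finite Q] [Group Y] (T : Sylow 2 Q) {A B L : Subgroup Q}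
    (hA : ∀ x ∈ A, x * x = 1) (hAc : ∀ x ∈ A, ∀ y ∈ A, x * y = y * x) (hLn : L.Normal) (hLq : IsQuasisimple L)
    (hD : (T : Subgroup Q) ⊓ centralizer (L : Set Q) ≤ A ⊓ B)
    (hnc : ¬ ∀ x ∈ (T : Subgroup Q) ⊓ L, ∀ y ∈ (T : Subgroup Q) ⊓ L, x * y = y * x)
    {ψ : Y →* Q} (hψ : Function.Injective ψ) (hn : ψ.range.Normal) (hT : (T : Subgroup Q) ≤ ψ.range)
    (hM : ψ.range ≤ L ⊔ centralizer (L : Set Q)) :
    ∃ K L' : Subgroup Y, (∀ a ∈ K, ∀ l ∈ L', a * l = l * a) ∧ K ⊔ L' = ⊤ ∧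
      (∀ P : Sylow 2 K, IsMulCommutative (P : Subgroup K) ∧ ∀ x ∈ (P : Subgroup K), x ^ 2 = 1) ∧
      Nonempty (L' ≃* L) := by
  have hp2 : Fact (Nat.Prime 2) := ⟨Nat.prime_two⟩
  have hLX : L ≤ ψ.range := by
    rcases quasisimple_normal hLq (ψ.range.subgroupOf L) inferInstance with h1 | h1
    · exact subgroupOf_eq_top.1 h1
    · exfalso
      apply hnc
      rintro x ⟨hx, hxL⟩ y ⟨hy, hyL⟩
      have h2 : (⟨x, hxL⟩ : L) ∈ center L := h1 (mem_subgroupOf.2 (hT hx))
      exact (congrArg Subtype.val (mem_center_iff.1 h2 ⟨y, hyL⟩)).symm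
  refine ⟨(centralizer (L : Set Q)).comap ψ, L.comap ψ, ?_, ?_, ?_, ?_⟩
  · intro a ha l hl
    apply hψ
    rw [map_mul, map_mul]
    exact (mem_centralizer_iff.1 ha (ψ l) hl).symm
  · rw [eq_top_iff]
    intro y _
    have h1 : ψ y ∈ L ⊔ centralizer (L : Set Q) := hM ⟨y, rfl⟩
    rw [mem_sup_of_normal_left] at h1
    obtain ⟨l, hl, c, hc, e⟩ := h1
    obtain ⟨l', rfl⟩ := hLX hl
    have h2 : l'⁻¹ * y ∈ (centralizer (L : Set Q)).comap ψ := by
      rw [mem_comap, map_mul, map_inv, ← e, inv_mul_cancel_left]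
      exact hc
    have h3 : y = l' * (l'⁻¹ * y) := by group
    rw [h3]
    exact mul_mem (mem_sup_right (mem_comap.2 hl)) (mem_sup_left h2)
  · intro P
    have h1 : IsPGroup 2 ((P : Subgroup ((centralizer (L : Set Q)).comap ψ)).map
        (ψ.comp ((centralizer (L : Set Q)).comap ψ).subtype)) := P.isPGroup'.map _
    obtain ⟨R, hR⟩ := h1.exists_le_sylow
    obtain ⟨g, hg⟩ := MulAction.exists_smul_eq Q T R
    have key : ∀ x ∈ (P : Subgroup ((centralizer (L : Set Q)).comap ψ)), g⁻¹ * ψ x * g ∈ A ⊓ B := by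
      intro x hx
      have h2 : ψ x ∈ (R : Subgroup Q) := hR ⟨x, hx, rfl⟩
      rw [← hg] at h2
      obtain ⟨y, hy, hyx⟩ : ∃ y ∈ (T : Subgroup Q), g * y * g⁻¹ = ψ x := h2
      apply hD
      refine ⟨?_, ?_⟩
      · rw [← hyx]
        have e : g⁻¹ * (g * y * g⁻¹) * g = y := by group
        rw [e]; exact hy
      · have h3 : (centralizer (L : Set Q)).Normal := inferInstance
        have h4 := h3.conj_mem (ψ x) x.2 g⁻¹
        rwa [inv_inv] at h4
    have hmul : ∀ x y : ((centralizer (L : Set Q)).comap ψ : Subgroup Y),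
        x ∈ (P : Subgroup ((centralizer (L : Set Q)).comap ψ)) →
        y ∈ (P : Subgroup ((centralizer (L : Set Q)).comap ψ)) → x * y = y * x := by
      intro x y hx hy
      have h2 := hAc _ (key x hx).1 _ (key y hy).1
      have h3 : ψ x * ψ y = ψ y * ψ x := by
        calc ψ x * ψ y = g * ((g⁻¹ * ψ x * g) * (g⁻¹ * ψ y * g)) * g⁻¹ := by group
          _ = ψ y * ψ x := by rw [h2]; group
      rw [← map_mul, ← map_mul] at h3
      exact Subtype.ext (hψ h3)
    refine ⟨⟨⟨fun x y => Subtype.ext (hmul x y x.2 y.2)⟩⟩, fun x hx => ?_⟩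
    have h2 := hA _ (key x hx).1
    have h3 : ψ x * ψ x = 1 := by
      calc ψ x * ψ x = g * ((g⁻¹ * ψ x * g) * (g⁻¹ * ψ x * g)) * g⁻¹ := by group
        _ = 1 := by rw [h2]; group
    rw [pow_two]
    apply Subtype.ext
    apply hψ
    rw [← map_mul] at h3
    rw [OneMemClass.coe_one, map_one]
    exact h3
  · have h1 : (L.comap ψ).map ψ = L := by
      rw [map_comap_eq, inf_eq_right]
      exact hLX
    exact ⟨((L.comap ψ).equivMapOfInjective ψ hψ).trans (MulEquiv.subgroupCongr h1)⟩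

omit [Finite G] in
theorem two_elements_normal : (closure {g : G | ∃ k : ℕ, orderOf g = 2 ^ k}).Normal := by
  refine ⟨fun x hx g => ?_⟩
  induction hx using closure_induction with
  | mem y hy =>
    obtain ⟨k, hk⟩ := hy
    refine Subgroup.subset_closure ⟨k, ?_⟩
    rw [← hk]
    have := (MulAut.conj g).orderOf_eq y
    rwa [MulAut.conj_apply] at this
  | one => simp
  | mul y z _ _ h1 h2 =>
    have e : g * (y * z) * g⁻¹ = (g * y * g⁻¹) * (g * z * g⁻¹) := by group
    rw [e]; exact mul_mem h1 h2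
  | inv y _ h1 =>
    have e : g * y⁻¹ * g⁻¹ = (g * y * g⁻¹)⁻¹ := by group
    rw [e]; exact inv_mem h1

theorem cen_of_big {A' B' : Subgroup G} (hB : Big ((S : Subgroup G).map (QuotientGroup.mk' (pPrimeCore 2 G)))
      (A'.map (QuotientGroup.mk' (pPrimeCore 2 G))) (B'.map (QuotientGroup.mk' (pPrimeCore 2 G))))
    (h : IsAB ((S : Subgroup G).map (QuotientGroup.mk' (pPrimeCore 2 G)))
      (A'.map (QuotientGroup.mk' (pPrimeCore 2 G))) (B'.map (QuotientGroup.mk' (pPrimeCore 2 G)))) :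
    Cen (G := G) ((A'.map (QuotientGroup.mk' (pPrimeCore 2 G))).relIndex
      ((S : Subgroup G).map (QuotientGroup.mk' (pPrimeCore 2 G)))) := by
  have hp2 : Fact (Nat.Prime 2) := ⟨Nat.prime_two⟩
  set π : G →* G ⧸ pPrimeCore 2 G := QuotientGroup.mk' (pPrimeCore 2 G) with hπ
  have hπs : Function.Surjective π := QuotientGroup.mk'_surjective _
  set T : Sylow 2 (G ⧸ pPrimeCore 2 G) := S.mapSurjective hπs with hT
  have hTc : (T : Subgroup (G ⧸ pPrimeCore 2 G)) = (S : Subgroup G).map π := rfl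
  obtain ⟨F, i1, i2, hA1, hB1, L, hLn, hLq, hiso, hSL, hD, hnc⟩ := hB
  rw [hA1]
  set X : Subgroup G := Subgroup.closure {g : G | ∃ k : ℕ, orderOf g = 2 ^ k} with hX
  have hXn : X.Normal := two_elements_normal
  have hker : (π.comp X.subtype).ker = Cfsg.oddCore X := by
    have h1 := Lib.Cores.map_subtype_pPrimeCore 2 hXn
    have h2 := congrArg (comap X.subtype) h1
    rw [comap_map_eq_self_of_injective X.subtype_injective] at h2
    change _ = pPrimeCore 2 X
    rw [h2]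
    ext x
    rw [MonoidHom.mem_ker, mem_comap, MonoidHom.comp_apply]
    constructor
    · intro h3
      exact ⟨x.2, (QuotientGroup.eq_one_iff _).1 h3⟩
    · intro h3
      exact (QuotientGroup.eq_one_iff _).2 h3.2
  let ψ : (X ⧸ Cfsg.oddCore X) →* G ⧸ pPrimeCore 2 G :=
    QuotientGroup.lift (Cfsg.oddCore X) (π.comp X.subtype) (fun x hx => by rw [← hker] at hx; exact hx)
  have hψ : Function.Injective ψ := by
    rw [injective_iff_map_eq_one]
    intro y hy
    obtain ⟨x, rfl⟩ := QuotientGroup.mk'_surjective _ y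
    have h1 : x ∈ (π.comp X.subtype).ker := hy
    rw [hker] at h1
    exact (QuotientGroup.eq_one_iff _).2 h1
  have hr : ψ.range = X.map π := by
    ext y
    constructor
    · rintro ⟨z, rfl⟩
      obtain ⟨x, rfl⟩ := QuotientGroup.mk'_surjective _ z
      exact ⟨x, x.2, rfl⟩
    · rintro ⟨x, hx, rfl⟩
      exact ⟨QuotientGroup.mk' _ ⟨x, hx⟩, rfl⟩
  have hXn' : ψ.range.Normal := by
    rw [hr]; exact hXn.map π hπs
  have hSX : (S : Subgroup G) ≤ X := by
    intro s hs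
    apply Subgroup.subset_closure
    obtain ⟨k, hk⟩ := IsPGroup.iff_orderOf.1 S.isPGroup' ⟨s, hs⟩
    refine ⟨k, ?_⟩
    rw [← hk, Subgroup.orderOf_mk]
  have hTX : (T : Subgroup (G ⧸ pPrimeCore 2 G)) ≤ ψ.range := by
    rw [hr, hTc]; exact Subgroup.map_mono hSX
  have hMn : (L ⊔ centralizer (L : Set (G ⧸ pPrimeCore 2 G))).Normal := inferInstance
  have hXM : ψ.range ≤ L ⊔ centralizer (L : Set (G ⧸ pPrimeCore 2 G)) := by
    rw [hr, map_le_iff_le_comap, hX, closure_le]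
    rintro g ⟨k, hk⟩
    rw [SetLike.mem_coe, mem_comap]
    refine mem_of_two_element T hMn hSL (k := k) ?_
    rw [← map_pow, ← hk, pow_orderOf_eq_one, map_one]
  obtain ⟨K, L', h1, h2, h3, ⟨e⟩⟩ := cen_aux T h.A_sq h.A_comm hLn hLq hD hnc hψ hXn' hTX hXM
  refine ⟨X, hX, K, L', h1, h2, h3, (LayerBasic.quasisimple_congr e.symm hLq).1, F, i1, i2,
    rfl, ?_⟩
  have e2 : (L' ⧸ center L') ≃* (L ⧸ center L) :=
    QuotientGroup.congr _ _ e (LayerBasic.map_center_equiv e)
  rcases hiso with ⟨⟨f⟩⟩ | ⟨⟨f⟩⟩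
  · exact Or.inl ⟨e2.trans f⟩
  · exact Or.inr ⟨e2.trans f⟩

end

end Cfsg.Agent.H306.AB
end

-- part: H306/AB/FromS1170
section
/-!
# Simple groups with a Sylow 2-subgroup of class two (helper306)

The form of S1170 needed for `Cfsg.Agent.H306.AB.quasi_main`.
-/

set_option autoImplicit false
open Cfsg

namespace Cfsg.Agent.H306.AB

open Subgroup
open scoped commutatorElement

universe u

theorem central_of_ty {G M : Type*} [Group G] [Finite G] [Group M] {q c : ℕ} (e : G ≃* M)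
    (h : ∀ S : Sylow 2 M, TypeU3Sz.Main.Ty (S : Subgroup M) q c) (S : Sylow 2 G) :
    ∀ x ∈ (S : Subgroup G), x * x = 1 → ∀ y ∈ (S : Subgroup G), x * y = y * x := by
  have h2 : Fact (Nat.Prime 2) := ⟨Nat.prime_two⟩
  intro x hx hxx y hy
  have h1 := h (S.mapSurjective (f := e.toMonoidHom) e.surjective)
  have h3 := h1.comm ⟨e x, ⟨x, hx, rfl⟩⟩ ⟨e y, ⟨y, hy, rfl⟩⟩ (by
    apply Subtype.ext
    change e x * e x = 1
    rw [← map_mul, hxx, map_one])
  have h4 : e x * e y = e y * e x := congrArg Subtype.val h3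
  rw [← map_mul, ← map_mul] at h4
  exact e.injective h4

theorem cl2Thm : Cl2Thm.{u} := by
  intro G _ _ _ S hna hcl
  have h2 : Fact (Nat.Prime 2) := ⟨Nat.prime_two⟩
  have hcomm : ⁅(⊤ : Subgroup (S : Subgroup G)), ⊤⁆ ≤ center (S : Subgroup G) := by
    rw [Subgroup.commutator_le]
    intro x _ y _
    rw [mem_center_iff]
    intro z
    apply Subtype.ext
    rw [commutatorElement_def]
    exact (hcl x x.2 y y.2 z z.2).symm
  have hS1 : IsStronglyClosed (S : Subgroup G) (S : Subgroup G) := ⟨le_rfl, fun _ _ _ h => h⟩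
  have hS2 : ¬ IsMulCommutative (S : Subgroup G) := by
    intro hc
    apply hna
    intro x hx y hy
    exact congrArg Subtype.val (hc.is_comm.comm ⟨x, hx⟩ ⟨y, hy⟩)
  have hnaG : ∃ a b : G, a * b ≠ b * a := by
    by_contra hcon
    push Not at hcon
    exact hna fun x _ y _ => hcon x y
  rcases Cfsg.Agent.S1170.result S (S : Subgroup G) hS1 hS2 hcomm with
    ⟨F, i1, i2, hF, ⟨e⟩⟩ | ⟨F, i1, i2, q, hF, hqe, hq, ⟨e⟩⟩ | hSz | ⟨F, i1, i2, hF, he⟩ | ⟨F, i1, i2, hF, h4, he⟩ | ⟨⟨e⟩⟩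
  · left
    rw [Nat.card_congr e.toEquiv]
    exact StdU3.EndLie.not_sixteen_dvd_psl hF
  · right; left
    -- `q` is a power of two
    obtain ⟨n, hn⟩ : ∃ n, q = 2 ^ n := by
      obtain ⟨p, hp⟩ := CharP.exists F
      have hpp : p.Prime := CharP.char_prime_of_ne_zero F (CharP.char_ne_zero_of_finite F p)
      have : Fact p.Prime := ⟨hpp⟩
      obtain ⟨m, -, hm⟩ := FiniteField.card F p
      have h3 : 2 ∣ p := by
        have h5 : 2 ∣ q ^ 2 := dvd_pow hqe.two_dvd (by norm_num)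
        rw [← hF, hm] at h5
        exact Nat.prime_two.dvd_of_dvd_pow h5
      have h6 : p = 2 := ((Nat.prime_dvd_prime_iff_eq Nat.prime_two hpp).1 h3).symm
      subst h6
      have h7 : q ∣ 2 ^ (m : ℕ) := by
        rw [← hm, hF]
        exact dvd_pow_self q (by norm_num)
      obtain ⟨k, -, hk⟩ := (Nat.dvd_prime_pow Nat.prime_two).1 h7
      exact ⟨k, hk⟩
    subst hn
    have hn1 : 1 ≤ n := by
      by_contra hcon
      have : n = 0 := by omega
      subst this
      norm_num at hq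
    exact central_of_ty e (fun T => TypeU3Sz.Main.ty_psu hn1 (by rw [Nat.card_eq_fintype_card, hF]) T)
  · right; left
    obtain ⟨F, i1, i2, m, hm, hF, ⟨e⟩⟩ := ThreePrime.Main.isoSuzuki hnaG (StdU3.EndLie.not_three_dvd_suzuki hSz)
    exact central_of_ty e (fun T => TypeU3Sz.Main.ty_sz hm hF T)
  · by_cases h4 : 4 ≤ Fintype.card F
    · right; right
      exact ⟨F, i1, i2, hF, h4, Or.inl he⟩
    · left
      obtain ⟨e⟩ := he
      rw [Nat.card_congr e.toEquiv]
      obtain ⟨n, -, hn⟩ := FiniteField.card F 2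
      have hF2 : Fintype.card F = 2 := by
        have h5 : (n : ℕ) < 2 := by
          by_contra hcon
          apply h4
          rw [hn]
          calc 4 = 2 ^ 2 := by norm_num
            _ ≤ 2 ^ (n : ℕ) := Nat.pow_le_pow_right (by norm_num) (by omega)
        have h6 : 0 < (n : ℕ) := n.2
        have h7 : (n : ℕ) = 1 := by omega
        rw [hn, h7, pow_one]
      intro h16
      obtain ⟨T, hT⟩ := ClassicalGeometry.AutPSL.SylowU.exists_sylow (F := F) 3 2
      have h8 : Nat.card T = 8 := by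
        have h9 := ClassicalGeometry.AutPSL.SylowU.card_map_upper (F := F) 3
        rw [← hT, hF2] at h9
        exact h9
      have h10 : 2 ^ 4 ∣ Nat.card T := T.pow_dvd_card_of_pow_dvd_card (by exact h16)
      rw [h8] at h10
      norm_num at h10
  · right; right
    exact ⟨F, i1, i2, hF, h4, Or.inr he⟩
  · left
    rw [Nat.card_congr e.toEquiv]
    have h1 : Nat.card (alternatingGroup (Fin 7)) = 2520 := by
      rw [nat_card_alternatingGroup, Nat.card_fin]
      decide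
    rw [h1]
    norm_num

end Cfsg.Agent.H306.AB
end
end
end
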